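import Cfsg.Agent.Fusion.Yoshida
import Cfsg.Agent.Kinf.WreathImage
import Cfsg.Agent.Fusion.Supersoluble
import Cfsg.Agent.Fusion.SmallControlApps
import Cfsg.Agent.Fusion.RankTwoResistant

/-!
Extensions of automorphisms along normalizers and the transfer consequence of a fixed point.
-/

set_option autoImplicit false
set_option linter.unusedSectionVars false
set_option linter.style.haveILetI false

open Cfsg Cfsg.FusionSystem CfsgLib.Fusion Subgroup

namespace CfsgLib.OrderFive

universe u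

/-- A root of unity of order `p - 1` modulo `p`. -/
theorem exists_root (p : ℕ) [hp : Fact p.Prime] : ∃ L μ : ℤ, (p : ℤ) ∣ L * μ - 1 ∧
    ∀ m : ℕ, ¬ (p - 1) ∣ m → ¬ (p : ℤ) ∣ L ^ m - 1 := by
  obtain ⟨g, hg⟩ := IsCyclic.exists_ofOrder_eq_natCard (α := (ZMod p)ˣ)
  rw [Nat.card_eq_fintype_card, ZMod.card_units] at hg
  refine ⟨((g : ZMod p).val : ℤ), (((g⁻¹ : (ZMod p)ˣ) : ZMod p).val : ℤ), ?_, fun m hm h => hm ?_⟩
  · rw [← ZMod.intCast_zmod_eq_zero_iff_dvd]
    push_cast
    rw [ZMod.natCast_zmod_val, ZMod.natCast_zmod_val, mul_inv_cancel₀ (Units.ne_zero g), sub_self]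
  · rw [← ZMod.intCast_zmod_eq_zero_iff_dvd] at h
    push_cast at h
    rw [ZMod.natCast_zmod_val, sub_eq_zero, ← Units.val_pow_eq_pow_val, Units.val_eq_one] at h
    exact hg ▸ orderOf_dvd_of_pow_eq_one h

variable {Ω : Type u} [Group Ω] {S : Subgroup Ω} [Finite S] {p : ℕ} [hp : Fact p.Prime]
  {F : FusionSystem S}

/-- `α` extends to an automorphism of `N` in the system. -/
def Ext (F : FusionSystem S) (P N : Subgroup Ω) (α : MulAut P) : Prop :=
  ∃ β ∈ F.autGroup N, ∀ (x : P) (hx : (x : Ω) ∈ N), ((β ⟨x, hx⟩ : N) : Ω) = ((α x : P) : Ω)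

/-- A map on the normalizer extending an automorphism is an automorphism of the normalizer. -/
theorem ext_of_hom {P N : Subgroup Ω} (hP : P ≤ S) (hN : normalizerIn S P = N) {α : MulAut P}
    {ψ : N →* Ω} (hψ : ψ ∈ F.Hom N)
    (h : ∀ (x : Ω) (hx : x ∈ P) (hxN : x ∈ N), ψ ⟨x, hxN⟩ = ((α ⟨x, hx⟩ : P) : Ω)) :
    Ext F P N α := by
  subst hN
  have hmap : (P.subgroupOf (normalizerIn S P)).map ψ = P :=
    (map_eq_range_of_eq (φ := P.subtype.comp α.toMonoidHom) (le_normalizerIn hP) h).trans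
      (range_subtype_comp α)
  have hr : ψ.range = normalizerIn S P := by
    refine eq_of_le_of_card_le (normalizerIn_le_S P) ?_ (card_range hψ).ge
    rintro _ ⟨g, rfl⟩
    have h1 := map_mem_normalizerIn hψ (le_normalizerIn hP) g.2 g.2
    rwa [hmap] at h1
  exact ⟨_, autOfRange_mem hψ hr, fun x hx => h x x.2 hx⟩

/-- An automorphism normalizing the automorphisms induced by `S` extends to the normalizer. -/
theorem ext_of_normalizes (hS : IsPGroup p S) (hF : F.IsSaturated p) {P N : Subgroup Ω}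
    (hPn : F.IsFullyNormalized P) (hN : normalizerIn S P = N) {α : MulAut P}
    (hα : α ∈ F.autGroup P)
    (h : ∀ τ ∈ autInducedBy S P, α * τ * α⁻¹ ∈ autInducedBy S P) : Ext F P N α := by
  have hPS := hPn.1
  have hφ := (autGroup_carrier hPS).1 hα
  have hle : N ≤ extender S P (P.subtype.comp α.toMonoidHom) := by
    intro g hg
    rw [← hN] at hg
    obtain ⟨k, hk, hk'⟩ := mem_autInducedBy.1
      (h _ (mem_autInducedBy.2 ⟨g, hg.1, fun _ => rfl⟩ : conjAut S P ⟨g, hg⟩ ∈ autInducedBy S P))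
    refine mem_extender_of hg hk fun x hx => ?_
    have h1 := hk' (α x)
    simp only [MulAut.mul_apply, MulAut.inv_apply_self] at h1
    exact h1
  obtain ⟨ψ, hψ, he⟩ := receptive_extend (good_of_fullyNormalized p hS hF hPn).2 hφ
    (range_subtype_comp α) hle
  exact ext_of_hom hPS hN hψ fun x hx hxN => he x hx hxN

/-- When `P` is not essential and has index `p` in its normalizer all automorphisms extend. -/
theorem ext_of_not_essential (hS : IsPGroup p S) (hF : F.IsSaturated p) {P N : Subgroup Ω}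
    (hPS : P < S) (hPn : F.IsFullyNormalized P) (hne : ¬ F.IsEssential p P)
    (hN : normalizerIn S P = N) (hcard : Nat.card N = p * Nat.card P) {α : MulAut P}
    (hα : α ∈ F.autGroup P) : Ext F P N α := by
  have hPN : P ≤ N := hN ▸ le_normalizerIn hPS.le
  let X : Subgroup (MulAut P) :=
    { carrier := {α | Ext F P N α}
      one_mem' := ⟨1, one_mem _, fun _ _ => rfl⟩
      mul_mem' := by
        rintro a b ⟨β, hβ, hβe⟩ ⟨γ, hγ, hγe⟩
        refine ⟨β * γ, mul_mem hβ hγ, fun x hx => ?_⟩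
        rw [MulAut.mul_apply, MulAut.mul_apply, ← hβe (b x) (hPN (b x).2)]
        exact congrArg (fun z : N => ((β z : N) : Ω)) (Subtype.ext (hγe x hx))
      inv_mem' := by
        rintro a ⟨β, hβ, hβe⟩
        refine ⟨β⁻¹, inv_mem hβ, fun x hx => ?_⟩
        have h1 : β ⟨(a⁻¹ x : P), hPN (a⁻¹ x).2⟩ = ⟨x, hx⟩ := Subtype.ext (by
          rw [hβe (a⁻¹ x) (hPN (a⁻¹ x).2), MulAut.apply_inv_self])
        rw [← h1, MulAut.inv_apply_self] }
  suffices h : F.autGroup P ≤ X from h hα
  rw [mem_closure_extendSet_of_not_essential p hS hF hPS hPn hne, Subgroup.closure_le]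
  rintro a ⟨Q, hPQ, φ, hφ, he⟩
  have hQS := le_of_mem_hom hφ
  have hlt : P < normalizerIn Q P := lt_normalizerIn p hS hQS hPQ
  have hRN : normalizerIn Q P ≤ N := fun g hg => hN ▸ ⟨hQS hg.1, hg.2⟩
  have hNS : N ≤ S := hN ▸ normalizerIn_le_S P
  have hNR : normalizerIn Q P = N := by
    refine eq_of_le_of_card_le hNS hRN ?_
    have := finite_of_le hQS
    have := finite_of_le hPS.le
    have := finite_of_le (hRN.trans hNS)
    have hp' : IsPGroup p (normalizerIn Q P : Subgroup Ω) := isPGroup_of_le hS (hRN.trans hNS)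
    obtain ⟨i, hi⟩ := IsPGroup.iff_card.1 hp'
    obtain ⟨j, hj⟩ := IsPGroup.iff_card.1 (isPGroup_of_le hS hPS.le)
    have h1 : Nat.card P < Nat.card (normalizerIn Q P : Subgroup Ω) := lt_of_not_ge fun hge =>
      hlt.ne (eq_of_le_of_card_le (hRN.trans hNS) hlt.le hge)
    rw [hi, hj, Nat.pow_lt_pow_iff_right hp.out.one_lt] at h1
    rw [hcard, hj, hi, ← pow_succ']
    exact Nat.pow_le_pow_right hp.out.pos h1
  have hNQ : N ≤ Q := hNR ▸ inf_le_left
  exact ext_of_hom hPS.le hN (restrict_mem hφ hNQ) fun x hx hxN => (he ⟨x, hx⟩)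

/-- Automorphisms of a subgroup of index `p` that is not essential extend to `S`. -/
theorem ext_top (hS : IsPGroup p S) (hF : F.IsSaturated p) (hcard : Nat.card S = p ^ 5)
    {N : Subgroup Ω} (hN : N ≤ S) (hNc : Nat.card N = p ^ 4) (hne : ¬ F.IsEssential p N)
    {α : MulAut N} (hα : α ∈ F.autGroup N) : Ext F N S α := by
  have hlt : N < S := lt_of_le_of_ne hN fun h => by
    rw [← h, hNc] at hcard
    exact absurd (Nat.pow_right_injective hp.out.two_le hcard) (by norm_num)
  have hNS : normalizerIn S N = S := by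
    refine le_antisymm (normalizerIn_le_S N) ?_
    have h1 := lt_normalizerIn p hS le_rfl hlt
    have := finite_of_le (normalizerIn_le_S (S := S) N)
    obtain ⟨i, hi⟩ := IsPGroup.iff_card.1 (isPGroup_of_le hS (normalizerIn_le_S (S := S) N))
    have h2 : Nat.card N < Nat.card (normalizerIn S N : Subgroup Ω) := lt_of_not_ge fun hge =>
      h1.ne (eq_of_le_of_card_le (normalizerIn_le_S N) h1.le hge)
    rw [hi, hNc, Nat.pow_lt_pow_iff_right hp.out.one_lt] at h2
    exact (eq_of_le_of_card_le le_rfl (normalizerIn_le_S N)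
      (by rw [hcard, hi]; exact Nat.pow_le_pow_right hp.out.pos h2)).ge
  refine ext_of_not_essential hS hF hlt ⟨hN, fun Q _ => ?_⟩ hne hNS (by rw [hcard, hNc]; ring) hα
  rw [hNS]
  exact card_le_of_le le_rfl (normalizerIn_le_S Q)

/-- A class modulo the derived subgroup fixed by all automorphisms gives a wreath product image. -/
theorem exists_wreath_of_fixed (hS : IsPGroup p S) (hF : F.IsSaturated p)
    (hhyp : F.hyperfocalSubgroup p = S) {c : S} (hc : c ∉ commutator S)
    (hfix : ∀ χ ∈ F.autGroup S, c⁻¹ * χ c ∈ commutator S) :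
    ∃ (Q : Sylow p (Equiv.Perm (Fin (p ^ 2))))
      (ψ : S →* ↥(Q : Subgroup (Equiv.Perm (Fin (p ^ 2))))), Function.Surjective ψ := by
  classical
  have : Finite (MulAut S) := finite_mulAut
  obtain ⟨H, hHA, hHc, hdec⟩ := exists_complement_inn hS hF
  have : Fintype H := Fintype.ofFinite H
  let f : H → S →* Abelianization S := fun χ =>
    Abelianization.of.comp (χ : MulAut S).toMonoidHom
  let Nm : S →* Abelianization S := ∏ χ : H, f χ
  have hNm : ∀ x, Nm x = ∏ χ : H, Abelianization.of ((χ : MulAut S) x) := fun x =>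
    MonoidHom.finsetProd_apply f Finset.univ x
  have hinv : ∀ α ∈ F.autGroup S, ∀ x, Nm (α x) = Nm x := by
    intro α hα x
    obtain ⟨i, ⟨g, rfl⟩, h, hh, rfl⟩ := hdec α hα
    rw [MulAut.mul_apply, MulAut.conj_apply, map_mul, map_mul, map_inv, mul_comm (Nm g),
      mul_inv_cancel_right, hNm, hNm]
    exact Fintype.prod_equiv (Equiv.mulRight (⟨h, hh⟩ : H)) _ _ fun χ => by simp
  have hNc : Nm c ≠ 1 := by
    intro h1
    refine hc ?_
    rw [← Abelianization.ker_of, MonoidHom.mem_ker]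
    have hall : ∀ χ : H, Abelianization.of ((χ : MulAut S) c) = Abelianization.of c := fun χ => by
      refine (inv_mul_eq_one.1 ?_).symm
      rw [← map_inv, ← map_mul]
      exact (MonoidHom.mem_ker (f := Abelianization.of)).1
        ((Abelianization.ker_of (G := S)).ge (hfix _ (hHA χ.2)))
    rw [hNm, Finset.prod_congr rfl fun χ _ => hall χ, Finset.prod_const, Finset.card_univ,
      ← Nat.card_eq_fintype_card] at h1
    obtain ⟨k, hk⟩ := hS c
    have h2 : Abelianization.of c ^ p ^ k = 1 := by rw [← map_pow, hk, map_one]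
    have h3 := Nat.dvd_gcd (orderOf_dvd_of_pow_eq_one h1) (orderOf_dvd_of_pow_eq_one h2)
    rw [(hHc.pow_right k).gcd_eq_one, Nat.dvd_one, orderOf_eq_one_iff] at h3
    exact h3
  refine exists_wreath_of_focal_ne p hS hF (T := Nm.ker.map S.subtype) ?_ ?_ ?_ fun φ hφ y => ?_
  · rw [← S.map_subtype_commutator]
    exact Subgroup.map_mono (Abelianization.commutator_subset_ker Nm)
  · exact (map_subtype_le _).trans (hhyp.symm.le.trans (hyperfocal_le_focal p))
  · intro e
    refine hNc ?_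
    obtain ⟨y, hy, hyc⟩ : (c : Ω) ∈ Nm.ker.map S.subtype :=
      e ▸ hyperfocal_le_focal p (hhyp.symm ▸ c.2)
    obtain rfl : y = c := Subtype.ext hyc
    exact hy
  · have hr := range_eq_S hφ
    refine ⟨y⁻¹ * autOfRange φ (F.injective_of_mem hφ) hr y, ?_, rfl⟩
    rw [SetLike.mem_coe, MonoidHom.mem_ker, map_mul, map_inv, hinv _ (autOfRange_mem hφ hr),
      inv_mul_cancel]

theorem not_wreath (hcard : Nat.card S = p ^ 5) (hp5 : 5 ≤ p)
    {Q : Sylow p (Equiv.Perm (Fin (p ^ 2)))}
    {ψ : S →* ↥(Q : Subgroup (Equiv.Perm (Fin (p ^ 2))))} (hψ : Function.Surjective ψ) : False := by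
  have h := Nat.card_le_card_of_surjective ψ hψ
  rw [CfsgLib.WreathImage.card_sylow_perm, hcard] at h
  have := (Nat.pow_le_pow_iff_right hp.out.one_lt).1 h
  omega

end CfsgLib.OrderFive
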