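import Mathlib.GroupTheory.Sylow
import Mathlib.GroupTheory.Commutator.Basic
import Mathlib.Logic.Equiv.Fintype
import Mathlib.Algebra.Group.Subgroup.Finite
import Mathlib.Algebra.Group.Pointwise.Set.Card
import Cfsg.Agent.Solvable.PGroupBasic

/-!
A group of order `3⁵` onto a Sylow `3`-subgroup of the symmetric group of degree nine.
-/

set_option autoImplicit false
set_option linter.style.haveILetI false

open Subgroup
open scoped commutatorElement

namespace CfsgLib.OrderFive

/-- A three-cycle. -/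
def wa : Equiv.Perm (Fin 9) := Equiv.swap 0 1 * Equiv.swap 1 2

/-- A permutation of the three blocks. -/
def wb : Equiv.Perm (Fin 9) := Equiv.addRight 3

/-- The base group of the wreath product. -/
def wBase : Subgroup (Equiv.Perm (Fin 9)) :=
  closure {wa, wb * wa * wb⁻¹, wb * (wb * wa * wb⁻¹) * wb⁻¹}

theorem wBase_comm : ∀ x ∈ wBase, ∀ y ∈ wBase, x * y = y * x := by
  intro x hx y hy
  letI := closureCommGroupOfComm (k := ({wa, wb * wa * wb⁻¹,
    wb * (wb * wa * wb⁻¹) * wb⁻¹} : Set (Equiv.Perm (Fin 9)))) (by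
      intro u hu v hv
      simp only [Set.mem_insert_iff, Set.mem_singleton_iff] at hu hv
      rcases hu with rfl | rfl | rfl <;> rcases hv with rfl | rfl | rfl <;> decide +kernel)
  exact congrArg Subtype.val (mul_comm (⟨x, hx⟩ : closure _) ⟨y, hy⟩)

theorem wBase_cube : ∀ x ∈ wBase, x ^ 3 = 1 := by
  intro x hx
  induction hx using closure_induction with
  | mem x hx =>
    simp only [Set.mem_insert_iff, Set.mem_singleton_iff] at hx
    rcases hx with rfl | rfl | rfl <;> decide +kernel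
  | one => simp
  | mul x y hxm hym hx hy =>
    rw [(show Commute x y from wBase_comm x hxm y hym).mul_pow, hx, hy, one_mul]
  | inv x _ hx => rw [inv_pow, hx, inv_one]

theorem wBase_card : 9 < Nat.card wBase := by
  let g : Fin 3 → Fin 3 → Fin 3 → wBase := fun i j k =>
    ⟨wa ^ (i : ℕ) * (wb * wa * wb⁻¹) ^ (j : ℕ) * (wb * (wb * wa * wb⁻¹) * wb⁻¹) ^ (k : ℕ),
      mul_mem (mul_mem (pow_mem (subset_closure (by simp)) _) (pow_mem (subset_closure (by simp)) _))
        (pow_mem (subset_closure (by simp)) _)⟩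
  have hdec : ∀ v w : Fin 3 × Fin 3 × Fin 3,
      wa ^ (v.1 : ℕ) * (wb * wa * wb⁻¹) ^ (v.2.1 : ℕ) *
          (wb * (wb * wa * wb⁻¹) * wb⁻¹) ^ (v.2.2 : ℕ) =
        wa ^ (w.1 : ℕ) * (wb * wa * wb⁻¹) ^ (w.2.1 : ℕ) *
          (wb * (wb * wa * wb⁻¹) * wb⁻¹) ^ (w.2.2 : ℕ) → v = w := by
    decide +kernel
  have h := Nat.card_le_card_of_injective (fun v : Fin 3 × Fin 3 × Fin 3 => g v.1 v.2.1 v.2.2)
    fun v w e => hdec v w (congrArg Subtype.val e)
  rw [Nat.card_eq_fintype_card, Fintype.card_prod, Fintype.card_prod, Fintype.card_fin] at h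
  omega

theorem wb_normalizes : zpowers wb ≤ normalizer (wBase : Set (Equiv.Perm (Fin 9))) := by
  rw [zpowers_le, mem_normalizer_iff]
  have hle : wBase.map (MulAut.conj wb).toMonoidHom = wBase := by
    refine eq_of_le_of_card_ge ?_ (card_map_of_injective (MulAut.conj wb).injective).ge
    rw [wBase, MonoidHom.map_closure, closure_le]
    rintro _ ⟨x, hx, rfl⟩
    simp only [Set.mem_insert_iff, Set.mem_singleton_iff] at hx
    rcases hx with rfl | rfl | rfl
    · exact subset_closure (by simp)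
    · exact subset_closure (by simp)
    · refine subset_closure ?_
      simp only [MulEquiv.coe_toMonoidHom, MulAut.conj_apply, Set.mem_insert_iff,
        Set.mem_singleton_iff]
      left
      decide +kernel
  intro v
  refine ⟨fun hv => hle.le ⟨v, hv, rfl⟩, fun hv => ?_⟩
  obtain ⟨u, hu, e⟩ := hle.ge hv
  exact (MulAut.conj wb).injective e ▸ hu

theorem wGroup_isPGroup : IsPGroup 3 (zpowers wb ⊔ wBase : Subgroup (Equiv.Perm (Fin 9))) := by
  haveI : Fact (Nat.Prime 3) := ⟨Nat.prime_three⟩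
  refine IsPGroup.to_sup_of_normal_right' ?_ ?_ wb_normalizes
  · refine IsPGroup.of_card (n := 1) ?_
    rw [Nat.card_zpowers, pow_one]
    exact orderOf_eq_prime (by decide +kernel) (by decide +kernel)
  · exact fun x => ⟨1, Subtype.ext (by simpa using wBase_cube x x.2)⟩

/-- A non-central triple commutator and a large elementary abelian subgroup. -/
theorem exists_witness [Fact (Nat.Prime 3)] (Q : Sylow 3 (Equiv.Perm (Fin 9))) :
    (∃ a b : ↥(Q : Subgroup (Equiv.Perm (Fin 9))), ⁅⁅a, b⁆, b⁆ ≠ 1) ∧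
      ∃ A : Subgroup ↥(Q : Subgroup (Equiv.Perm (Fin 9))),
        (∀ x ∈ A, ∀ y ∈ A, x * y = y * x) ∧ (∀ x ∈ A, x ^ 3 = 1) ∧ 9 < Nat.card A := by
  obtain ⟨P, hP⟩ := wGroup_isPGroup.exists_le_sylow
  let e : ↥(P : Subgroup (Equiv.Perm (Fin 9))) ≃* ↥(Q : Subgroup (Equiv.Perm (Fin 9))) := P.equiv Q
  have ha : wa ∈ (P : Subgroup (Equiv.Perm (Fin 9))) :=
    hP (mem_sup_right (subset_closure (by simp)))
  have hb : wb ∈ (P : Subgroup (Equiv.Perm (Fin 9))) := hP (mem_sup_left (mem_zpowers wb))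
  refine ⟨⟨e ⟨wa, ha⟩, e ⟨wb, hb⟩, fun h => ?_⟩,
    (wBase.subgroupOf P).map e.toMonoidHom, ?_, ?_, ?_⟩
  · rw [← map_commutatorElement, ← map_commutatorElement, map_eq_one_iff _ e.injective] at h
    have h' := congrArg Subtype.val h
    revert h'
    show ⁅⁅wa, wb⁆, wb⁆ = 1 → False
    simp only [commutatorElement_def]
    decide +kernel
  · rintro _ ⟨x, hx, rfl⟩ _ ⟨y, hy, rfl⟩
    rw [← map_mul, ← map_mul]
    exact congrArg _ (Subtype.ext (wBase_comm _ (mem_subgroupOf.1 hx) _ (mem_subgroupOf.1 hy)))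
  · rintro _ ⟨x, hx, rfl⟩
    rw [← map_pow, show x ^ 3 = 1 from Subtype.ext (wBase_cube _ (mem_subgroupOf.1 hx)), map_one]
  · rw [card_map_of_injective e.injective,
      Nat.card_congr (subgroupOfEquivOfLe ((le_sup_right).trans hP)).toEquiv]
    exact wBase_card

universe u

variable {G : Type u} [Group G] [Finite G] [Fact (Nat.Prime 3)]

/-- Surjections onto the wreath product have kernels of order `3`. -/
theorem card_ker (hcard : Nat.card G = 3 ^ 5) {Q : Sylow 3 (Equiv.Perm (Fin 9))}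
    {ψ : G →* ↥(Q : Subgroup (Equiv.Perm (Fin 9)))} (hψ : Function.Surjective ψ)
    (hQ : Nat.card ↥(Q : Subgroup (Equiv.Perm (Fin 9))) = 3 ^ 4) : Nat.card ψ.ker = 3 := by
  have h := ψ.ker.card_mul_index
  rw [index_ker, MonoidHom.range_eq_top.2 hψ, card_top, hQ, hcard] at h
  omega

/-- A group of class at most two modulo a centre of order three does not map onto `C₃ ≀ C₃`. -/
theorem false_of_class (hcard : Nat.card G = 3 ^ 5) {Q : Sylow 3 (Equiv.Perm (Fin 9))}
    {ψ : G →* ↥(Q : Subgroup (Equiv.Perm (Fin 9)))} (hψ : Function.Surjective ψ)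
    (hQ : Nat.card ↥(Q : Subgroup (Equiv.Perm (Fin 9))) = 3 ^ 4)
    (hZ : Nat.card (center G) = 3) (h : ∀ x y z : G, ⁅⁅x, y⁆, z⁆ ∈ center G) : False := by
  have hker := card_ker hcard hψ hQ
  haveI := (IsPGroup.of_card hcard).isNilpotent
  have hle : ψ.ker ≤ center G := by
    have h1 := CfsgLib.PGroupBasic.inf_center_ne_bot ψ.ker fun h0 => by
      rw [h0, card_bot] at hker; omega
    rcases (Nat.dvd_prime Nat.prime_three).1
      (hker ▸ card_dvd_of_le (inf_le_left : ψ.ker ⊓ center G ≤ ψ.ker)) with h2 | h2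
    · exact absurd (eq_bot_of_card_eq _ h2) h1
    · exact (eq_of_le_of_card_ge inf_le_left (by rw [h2, hker])).ge.trans inf_le_right
  have heq : ψ.ker = center G := eq_of_le_of_card_ge hle (by rw [hZ, hker])
  obtain ⟨⟨a, b, hab⟩, -⟩ := exists_witness Q
  obtain ⟨x, rfl⟩ := hψ a
  obtain ⟨y, rfl⟩ := hψ b
  refine hab ?_
  rw [← map_commutatorElement, ← map_commutatorElement]
  exact MonoidHom.mem_ker.1 (heq ▸ h x y y)

omit [Fact (Nat.Prime 3)] in
/-- A group all of whose subgroups need two generators does not map onto `C₃ ≀ C₃`. -/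
theorem false_of_two_generated [Fact (Nat.Prime 3)] {Q : Sylow 3 (Equiv.Perm (Fin 9))}
    {ψ : G →* ↥(Q : Subgroup (Equiv.Perm (Fin 9)))} (hψ : Function.Surjective ψ)
    (h : ∀ H : Subgroup G, ∃ U : Finset G, U.card ≤ 2 ∧ closure (U : Set G) = H) : False := by
  classical
  obtain ⟨-, A, hab, hcube, hA⟩ := exists_witness Q
  obtain ⟨U, hU, hUA⟩ := h (A.comap ψ)
  have hA' : A = closure ((U.image ψ : Finset _) : Set _) := by
    rw [Finset.coe_image, ← MonoidHom.map_closure, hUA, map_comap_eq_self_of_surjective hψ]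
  obtain ⟨a, b, hab'⟩ : ∃ a b, A ≤ zpowers a ⊔ zpowers b ∧ a ∈ A ∧ b ∈ A := by
    have hV : (U.image ψ).card ≤ 2 := Finset.card_image_le.trans hU
    rcases (show (U.image ψ).card = 0 ∨ (U.image ψ).card = 1 ∨ (U.image ψ).card = 2 by omega)
      with h0 | h1 | h2
    · refine ⟨1, 1, ?_, one_mem _, one_mem _⟩
      rw [hA', Finset.card_eq_zero.1 h0]
      simp
    · obtain ⟨a, ha⟩ := Finset.card_eq_one.1 h1
      refine ⟨a, a, ?_, ?_, ?_⟩
      · rw [hA', ha, closure_le]
        simp
      all_goals rw [hA', ha]; exact subset_closure (by simp)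
    · obtain ⟨a, b, -, hab'⟩ := Finset.card_eq_two.1 h2
      refine ⟨a, b, ?_, ?_, ?_⟩
      · rw [hA', hab', closure_le]
        intro x hx
        simp only [Finset.coe_insert, Finset.coe_singleton, Set.mem_insert_iff,
          Set.mem_singleton_iff] at hx
        rcases hx with rfl | rfl
        · exact mem_sup_left (mem_zpowers _)
        · exact mem_sup_right (mem_zpowers _)
      all_goals rw [hA', hab']; exact subset_closure (by simp)
  obtain ⟨hle, ha, hb⟩ := hab'
  have hnorm : zpowers a ≤ normalizer (zpowers b : Set ↥(Q : Subgroup (Equiv.Perm (Fin 9)))) := by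
    refine zpowers_le.2 (centralizer_le_normalizer _ (mem_centralizer_iff.2 fun x hx => ?_))
    obtain ⟨i, rfl⟩ := mem_zpowers_iff.1 hx
    exact ((show Commute b a from hab b hb a ha).zpow_left i).eq
  have h9 : Nat.card A ≤ 3 * 3 := by
    refine (card_le_of_le hle).trans ?_
    have hbc : Nat.card (zpowers b) ≤ 3 := by
      rw [Nat.card_zpowers]
      exact Nat.le_of_dvd (by norm_num) (orderOf_dvd_of_pow_eq_one (hcube b hb))
    refine le_of_eq_of_le (congrArg (fun T : Set ↥(Q : Subgroup (Equiv.Perm (Fin 9))) => Nat.card T)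
      (coe_mul_of_left_le_normalizer_right _ _ hnorm)) ?_
    refine (Set.natCard_mul_le).trans ?_
    refine Nat.mul_le_mul ?_ hbc
    show Nat.card (zpowers a) ≤ 3
    rw [Nat.card_zpowers]
    exact Nat.le_of_dvd (by norm_num) (orderOf_dvd_of_pow_eq_one (hcube a ha))
  omega

end CfsgLib.OrderFive
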