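import Cfsg.Agent.Fusion.OrderFive.Weight
import Cfsg.Agent.Fusion.OrderFive.Wreath
import Cfsg.Agent.Fusion.OrderFive.Fusion

/-!
The configuration with centre of index `p²` in a maximal subgroup is impossible.
-/

set_option autoImplicit false
set_option linter.unusedSectionVars false
set_option linter.style.haveILetI false

open Cfsg Cfsg.FusionSystem Subgroup
open scoped commutatorElement

namespace CfsgLib.OrderFive

universe u

section group

theorem zmod_three : ∀ B D V : ZMod 3, ¬B * D * B = 0 → V * D - B * D * B = 0 → V - 1 = 0 := by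
  decide

variable {G : Type u} [Group G] [Finite G] {p : ℕ} [hp : Fact p.Prime] {N : Subgroup G}

/-- When `[A, G] ≤ R` and `Z(N)` is not central, a class modulo `[G, G]` is fixed for `p = 3`. -/
theorem Cfg.three_facts (hc : Cfg p N) (hp3 : p = 3)
    (hA : ∀ a ∈ cA N, ∀ g : G, ⁅a, g⁆ ∈ cR N) {c : G} (hcW : c ∈ cW N) {g₀ : G}
    (hg₀ : g₀ * c ≠ c * g₀) :
    Nat.card (center G) = p ∧ (∀ x y z : G, ⁅⁅x, y⁆, z⁆ ∈ center G) ∧ c ∉ commutator G ∧
      ∀ χ : MulAut G, c⁻¹ * χ c ∈ commutator G := by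
  haveI := hc.normN
  haveI := hc.normW
  haveI := hc.normR
  obtain ⟨e, he, heA⟩ := SetLike.exists_of_lt hc.A_lt_N
  obtain ⟨y, hy, hay⟩ := hc.exists_y he heA hA
  obtain ⟨haA, haW⟩ := hc.gen he heA hy
  set a := ⁅e, y⁆ with had
  obtain ⟨hR, hr1, hrp, hRc, hcen⟩ := hc.R_facts he heA haA haW
  set r := ⁅a, e⁆ with hrd
  have haN := hc.A_le haA
  have hrR : r ∈ cR N := hR ▸ mem_zpowers r
  have hA' : ∀ a ∈ cA N, ∀ g : G, ⁅g, a⁆ ∈ cR N := fun b hb g => by
    rw [← commutatorElement_inv]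
    exact inv_mem (hA b hb g)
  have hWs : ∀ w ∈ cW N, ∀ g : G, ⁅g, w⁆ ∈ cR N := fun w hw g => hc.W_sec he heA haA haW hw g
  have hbot : ∀ {x : G}, x ∈ cR N → ∀ g : G, ⁅g, x⁆ ∈ (⊥ : Subgroup G) := fun hx g =>
    mem_bot.2 (commutatorElement_eq_one_iff_mul_comm.2 (hcen _ hx g))
  have hWsec : CfsgLib.MaxClassEss.Sec p (cW N) (cR N) :=
    CfsgLib.MaxClassEss.sec_of_card hc.pG hc.R_le (by rw [hc.cardW, hRc, sq])
  have hcR : c ∉ cR N := fun h => hg₀ (hcen c h g₀)
  have hcA : c ∈ cA N := mem_sup_left hcW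
  have hap : a ^ p ∈ cR N := by
    have h1 := comm_mod (cR N) (x := e) (y := y) (u := 1) (v := 1) (hA' a haA) (by simp) (by simp)
      (by simp) (p : ℤ) 1
    simp only [mul_one, zpow_one, zpow_natCast] at h1
    have h2 : ⁅e ^ p, y⁆ ∈ cR N := by
      rw [← commutatorElement_inv]
      exact inv_mem (hWs _ (hc.quot_facts.1 e he) y)
    have h3 := mul_mem h1 (inv_mem h2)
    rw [mul_inv_cancel_right] at h3
    exact inv_mem_iff.1 h3
  set K := zpowers a ⊔ cR N with hK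
  have haK : a ∈ K := mem_sup_left (mem_zpowers a)
  have hKA : K ≤ cA N := sup_le (zpowers_le.2 haA) (hc.R_le.trans le_sup_left)
  haveI hKn : K.Normal := ⟨fun x hx g => by
    have h1 : ⁅g, x⁆ * x ∈ K := mul_mem (mem_sup_right (hA' x (hKA hx) g)) hx
    rwa [commutatorElement_def, inv_mul_cancel_right] at h1⟩
  have hKmem : ∀ x ∈ K, ∃ i : ℤ, ∃ v ∈ cR N, x = a ^ i * v := fun x hx => by
    obtain ⟨_, ⟨i, rfl⟩, v, hv, rfl⟩ := mem_sup_of_normal_right.1 hx
    exact ⟨i, v, hv, rfl⟩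
  -- the derived subgroup
  have hGK : commutator G = K := by
    refine le_antisymm ?_ (sup_le (zpowers_le.2 ?_) ?_)
    · set π := QuotientGroup.mk' K
      have hone : ∀ {u v : G}, ⁅u, v⁆ ∈ K → Commute (π u) (π v) := fun {u v} huv =>
        commutatorElement_eq_one_iff_commute.1 (by
          rw [← map_commutatorElement]; exact (QuotientGroup.eq_one_iff _).2 huv)
      have hzA : ∀ b ∈ cA N, ∀ q : G, Commute (π b) (π q) := fun b hb q =>
        hone (mem_sup_right (hA b hb q))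
      rw [_root_.commutator_def, commutator_le]
      intro u _ v _
      obtain ⟨j, n, hn, rfl⟩ := hc.decompG hy u
      obtain ⟨i, b, hb, rfl⟩ := hc.decompN he heA hn
      obtain ⟨k, m, hm, rfl⟩ := hc.decompG hy v
      obtain ⟨l, d, hd, rfl⟩ := hc.decompN he heA hm
      refine (QuotientGroup.eq_one_iff _).1 ?_
      show π _ = 1
      rw [map_commutatorElement, commutatorElement_eq_one_iff_commute]
      simp only [map_mul, map_zpow]
      have hey : Commute (π e) (π y) := hone haK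
      exact (((Commute.refl (π y)).zpow_zpow j k).mul_right
        ((hey.symm.zpow_zpow j l).mul_right ((hzA d hd y).symm.zpow_left j))).mul_left
        (((hey.zpow_zpow i k).mul_right (((Commute.refl (π e)).zpow_zpow i l).mul_right
          ((hzA d hd e).symm.zpow_left i))).mul_left
        (((hzA b hb y).zpow_right k).mul_right (((hzA b hb e).zpow_right l).mul_right (hzA b hb d))))
    · exact commutator_mem_commutator (mem_top e) (mem_top y)
    · exact commutator_mono le_top le_top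
  -- the centre
  have hZ : center G = cR N := by
    refine le_antisymm (fun z hz => ?_) fun x hx => mem_center_iff.2 (hcen x hx)
    have hzN : z ∈ N := by
      by_contra h
      refine (hc.gen he heA h).2 ?_
      rw [commutatorElement_eq_one_iff_mul_comm.2 (mem_center_iff.1 hz e)]
      exact one_mem _
    have hzW : z ∈ cW N := ⟨hzN, mem_centralizer_iff.2 fun n _ => mem_center_iff.1 hz n⟩
    by_contra hzR
    obtain ⟨i, hi⟩ := hWsec.exists_zpow hzW hzR hcW
    refine hg₀ ?_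
    have h1 : Commute g₀ ((z ^ i) * ((z ^ i)⁻¹ * c)) :=
      ((show Commute g₀ z from mem_center_iff.1 hz g₀).zpow_right i).mul_right (hcen _ hi g₀)
    rwa [mul_inv_cancel_left] at h1
  have hcK : c ∉ K := by
    intro h
    obtain ⟨i, v, hv, e1⟩ := hKmem c h
    have hi : a ^ i ∈ cW N := by
      rw [show a ^ i = c * v⁻¹ by rw [e1, mul_inv_cancel_right]]
      exact mul_mem hcW (inv_mem (hc.R_le hv))
    obtain ⟨j, rfl⟩ := CfsgLib.Fusion.dvd_of_zpow_mem (hc.quot_facts.1 a haN) haW hi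
    refine hcR ?_
    rw [e1, zpow_mul, zpow_natCast]
    exact mul_mem (zpow_mem hap j) hv
  refine ⟨by rw [hZ, hRc], fun u v w => ?_, hGK.symm ▸ hcK, fun χ => ?_⟩
  · rw [hZ]
    exact hA _ (hKA (hGK ▸ commutator_mem_commutator (mem_top u) (mem_top v))) w
  have hχK : ∀ {x : G}, x ∈ K → χ x ∈ K := fun {x} hx => by
    rw [← hGK] at hx ⊢
    exact Subgroup.characteristic_iff_le_comap.1 (inferInstance : (commutator G).Characteristic) χ hx
  have hχR : ∀ {x : G}, χ x ∈ cR N → x ∈ cR N := fun {x} hx => by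
    rw [← hZ] at hx ⊢
    refine mem_center_iff.2 fun g => χ.injective ?_
    rw [map_mul, map_mul]
    exact mem_center_iff.1 hx (χ g)
  -- membership in `A`
  have hAmem : ∀ {g : G}, (∀ x, ⁅g, x⁆ ∈ cR N) → g ∈ cA N := fun {g} hg => by
    have hgN : g ∈ N := by
      by_contra h
      refine (hc.gen he heA h).2 (hc.R_le ?_)
      rw [← commutatorElement_inv]
      exact inv_mem (hg e)
    by_contra h
    exact (hc.gen hgN h hy).2 (hc.R_le (hg y))
  have hχA : χ c ∈ cA N := hAmem fun x => by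
    obtain ⟨x', rfl⟩ := χ.surjective x
    rw [← map_commutatorElement, ← hZ]
    exact Subgroup.characteristic_iff_le_comap.1 (inferInstance : (center G).Characteristic) χ
      (hZ.ge (hA c hcA x'))
  obtain ⟨k, va, hva, hχa⟩ := hKmem _ (hχK haK)
  -- the centralizer of `a`
  have hTn : ∀ {t : G}, Commute a t → ∀ g : G, Commute a (g * t * g⁻¹) := fun {t} ht g => by
    have h1 : Commute ((g⁻¹ * a * g) : G) t := by
      have e1 : g⁻¹ * a * g = ⁅g⁻¹, a⁆ * a := by rw [commutatorElement_def]; group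
      rw [e1]
      exact (show Commute ⁅g⁻¹, a⁆ t from (hcen _ (hA' a haA g⁻¹) t).symm).mul_left ht
    have h2 := h1.map (MulAut.conj g).toMonoidHom
    simpa [MulAut.conj_apply, mul_assoc] using h2
  have hTA : ∀ {n : G}, n ∈ N → Commute a n → n ∈ cA N := fun {n} hn hcomm => by
    obtain ⟨i, b, hb, rfl⟩ := hc.decompN he heA hn
    have h1 : Commute a (e ^ i) := by
      have := hcomm.mul_right (hc.A_abelian haA hb).inv_right
      rwa [mul_inv_cancel_right] at this
    have h2 : r ^ i = 1 := by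
      have h3 := CfsgLib.MaxClassEss.comm_zpow_zpow (x := a) (y := e) (z := r)
        (hcen r hrR) rfl 1 i
      rw [zpow_one, one_mul, commutatorElement_eq_one_iff_commute.2 h1] at h3
      exact h3.symm
    obtain ⟨j, rfl⟩ : (p : ℤ) ∣ i := by
      rw [← orderOf_eq_prime hrp hr1]
      exact orderOf_dvd_iff_zpow_eq_one.2 h2
    refine mul_mem ?_ hb
    rw [zpow_mul, zpow_natCast]
    exact zpow_mem (mem_sup_left (hc.quot_facts.1 e he)) j
  obtain ⟨δ, v, hv, hχy⟩ := hc.decompG hy (χ y)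
  have hvA : v ∈ cA N := by
    have hk : ¬ (p : ℤ) ∣ k := by
      rintro ⟨j, rfl⟩
      refine haW (hc.R_le (hχR ?_))
      rw [hχa, zpow_mul, zpow_natCast]
      exact mul_mem (zpow_mem hap j) hva
    have h1 : Commute (a ^ k) (χ y) := by
      have h2 : Commute (a ^ k * va) (χ y) := hχa ▸ hay.map χ.toMonoidHom
      have := h2.mul_left (show Commute va (χ y) from (hcen va hva (χ y)).symm).inv_left
      rwa [mul_inv_cancel_right] at this
    obtain ⟨l, hl⟩ := CfsgLib.Fusion.exists_zpow_undo hc.pG a hk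
    have h2 : Commute a (y ^ δ * v) := hχy ▸ hl ▸ h1.zpow_left l
    refine hTA hv ?_
    have := (hay.zpow_right δ).inv_right.mul_right h2
    rwa [inv_mul_cancel_left] at this
  obtain ⟨j, n, hn, hχe₀⟩ := hc.decompG hy (χ e)
  obtain ⟨β, b, hb, rfl⟩ := hc.decompN he heA hn
  set t := (e ^ β)⁻¹ * y ^ j * e ^ β * b with htd
  have hχe : χ e = e ^ β * t := by rw [hχe₀, htd]; group
  have hta : Commute a t := by
    have := (hTn (hay.zpow_right j) (e ^ β)⁻¹).mul_right (hc.A_abelian haA hb)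
    rwa [inv_inv] at this
  have hty : ⁅t, y⁆ ∈ cR N := by
    obtain ⟨j', n', hn', e1⟩ := hc.decompG hy t
    have hn'A : n' ∈ cA N := hTA hn' (by
      have := (hay.zpow_right j').inv_right.mul_right (e1 ▸ hta)
      rwa [inv_mul_cancel_left] at this)
    have e2 : ⁅t, y⁆ = y ^ j' * ⁅n', y⁆ * (y ^ j')⁻¹ := by
      rw [e1, commutatorElement_def, commutatorElement_def]
      have := ((Commute.refl y).zpow_left j').eq
      calc y ^ j' * n' * y * (y ^ j' * n')⁻¹ * y⁻¹
          = y ^ j' * n' * y * n'⁻¹ * ((y ^ j')⁻¹ * y⁻¹) := by group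
        _ = y ^ j' * n' * y * n'⁻¹ * (y⁻¹ * (y ^ j')⁻¹) := by
            rw [((Commute.refl y).zpow_left j').inv_inv.eq]
        _ = _ := by group
    rw [e2]
    exact hc.normR.conj_mem _ (hA n' hn'A y) _
  have ha1 := push_comm (cR N) χ hχe hχy (hA' a haA) hty (hA' v hvA t) (hA v hvA e)
  obtain ⟨w', hw', hχa'⟩ : ∃ w' ∈ cR N, χ a = a ^ (β * δ) * w' :=
    ⟨_, ha1, (mul_inv_cancel_left _ _).symm⟩
  have hr := push_comm (⊥ : Subgroup G) χ hχa' hχe (hbot hrR)
    (mem_bot.2 (commutatorElement_eq_one_iff_mul_comm.2 (hcen _ hw' e).symm))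
    (mem_bot.2 (commutatorElement_eq_one_iff_mul_comm.2 (hcen _ hw' t).symm))
    (mem_bot.2 (commutatorElement_eq_one_iff_commute.2 hta.symm))
  rw [mem_bot, inv_mul_eq_one, ← hrd] at hr
  -- the class of `c`
  obtain ⟨i, w, hw, hχc₀⟩ := hc.decompA haA haW hχA
  obtain ⟨ν, hν⟩ := hWsec.exists_zpow hcW hcR hw
  set d := a ^ i * ((c ^ ν)⁻¹ * w) with hd
  have hdK : d ∈ K := mul_mem (zpow_mem haK i) (mem_sup_right hν)
  have hχc : χ c = c ^ ν * d := by
    rw [hχc₀, hd, ← mul_assoc, ← ((hc.A_abelian haA hcA).zpow_zpow i ν).eq, mul_assoc,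
      mul_inv_cancel_left]
  have hcy : ⁅c, y⁆ ∈ cR N := hA c hcA y
  have hcy1 : ⁅c, y⁆ ≠ 1 := by
    intro h
    rw [commutatorElement_eq_one_iff_commute] at h
    obtain ⟨j', n', hn', rfl⟩ := hc.decompG hy g₀
    exact hg₀ ((h.zpow_right j').mul_right (Cfg.comm_of_mem_W hcW hn')).eq.symm
  have hdy : Commute d y := by
    obtain ⟨m, v', hv', e1⟩ := hKmem d hdK
    rw [e1]
    exact (hay.zpow_left m).mul_left (hcen v' hv' y).symm
  have hc1 := push_comm (⊥ : Subgroup G) χ hχc hχy (hbot hcy)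
    (mem_bot.2 (commutatorElement_eq_one_iff_commute.2 hdy))
    (mem_bot.2 (commutatorElement_eq_one_iff_commute.2 (hc.A_abelian (hKA hdK) hvA)))
    (mem_bot.2 (commutatorElement_eq_one_iff_commute.2 (hc.A_abelian hvA hcA)))
  obtain ⟨m, hm⟩ := mem_zpowers_iff.1 (hR ▸ hcy : ⁅c, y⁆ ∈ zpowers r)
  have hc2 : (⁅c, y⁆ ^ (β * δ * β))⁻¹ * χ ⁅c, y⁆ ∈ (⊥ : Subgroup G) := by
    rw [mem_bot, inv_mul_eq_one, ← hm, map_zpow, ← hr, ← zpow_mul, ← zpow_mul, mul_comm]
  have hcyp : ⁅c, y⁆ ^ p ∈ (⊥ : Subgroup G) := by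
    rw [mem_bot, ← hm, ← zpow_natCast, ← zpow_mul, mul_comm, zpow_mul, zpow_natCast, hrp, one_zpow]
  have h7 : (p : ℤ) ∣ ν * δ - β * δ * β := dvd_sub hcyp (fun h => hcy1 (mem_bot.1 h)) hc1 hc2
  have hnz : ¬ (p : ℤ) ∣ β * δ * β := by
    intro hdvd
    refine hr1 (χ.injective ?_)
    rw [← hr, map_one, CfsgLib.Fusion.zpow_congr hrp (j := 0) (by simpa using hdvd), zpow_zero]
  have hν1 : (p : ℤ) ∣ ν - 1 := by
    rw [← ZMod.intCast_zmod_eq_zero_iff_dvd] at h7 hnz ⊢
    push_cast at h7 hnz ⊢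
    subst hp3
    exact zmod_three _ _ _ hnz h7
  obtain ⟨j', hj'⟩ := hν1
  rw [hGK, hχc, ← mul_assoc]
  refine mul_mem ?_ hdK
  rw [← zpow_neg_one, ← zpow_add, show -1 + ν = (p : ℤ) * j' by omega]
  exact mem_sup_right (hWsec.zpow_mul_mem hcW j')

end group

variable {Ω : Type u} [Group Ω] {S : Subgroup Ω} [Finite S] {p : ℕ} [hp : Fact p.Prime]
  {F : FusionSystem S}

/-- No configuration with weights off the two critical congruences. -/
theorem Cfg.false_of_weights {N : Subgroup S} (hc : Cfg p N) (hS : IsPGroup p S)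
    (hF : F.IsSaturated p) (hhyp : F.hyperfocalSubgroup p = S) (hp2 : p ≠ 2)
    (hna : ¬ ∃ B : Subgroup S, (∀ a ∈ B, ∀ b ∈ B, a * b = b * a) ∧ B.index = p)
    {χ : MulAut S} {e : S} (he : e ∈ N) (heA : e ∉ cA N) {α β : ℤ}
    (hχe : (e ^ β)⁻¹ * χ e ∈ cA N) (hχa : ∀ a ∈ cA N, (a ^ α)⁻¹ * χ a ∈ cW N)
    (hχw : ∀ w ∈ cW N, w⁻¹ * χ w ∈ cR N) (hα : ¬ (p : ℤ) ∣ α * α - β)
    (hβ : 5 ≤ p → ¬ (p : ℤ) ∣ β * β - 1) : False := by
  obtain ⟨h1, h2⟩ := hc.weights he heA hχe hχa hχw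
  have hA : ∀ a ∈ cA N, ∀ g : S, ⁅a, g⁆ ∈ cR N := fun a ha g => by
    by_contra h
    exact hα (h1 ⟨a, ha, g, h⟩)
  by_cases hW : ∀ w ∈ cW N, ∀ g : S, g * w = w * g
  · exact hna (hc.abelian_of hA hW)
  push Not at hW
  obtain ⟨c, hcW, g₀, hg₀⟩ := hW
  have hp3 : p = 3 := by
    have h2le := hp.out.two_le
    have h4 : p ≠ 4 := fun h => by have := hp.out; rw [h] at this; norm_num at this
    by_contra h3
    exact hβ (by omega) (h2 ⟨c, hcW, g₀, hg₀⟩)
  obtain ⟨hZ, hcl, hcD, hfix⟩ := hc.three_facts hp3 hA hcW hg₀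
  obtain ⟨Q, ψ, hψ⟩ := exists_wreath_of_fixed hS hF hhyp hcD fun χ _ => hfix χ
  have hQ := CfsgLib.WreathImage.card_sylow_perm p Q
  subst hp3
  exact false_of_class (G := S) hc.cardG hψ hQ hZ hcl

end CfsgLib.OrderFive
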