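import Cfsg.Agent.Fusion.OrderFive.Conclude
import Cfsg.Agent.MaxClassEss.Bridge

/-!
No elementary abelian essential subgroup of order `p³`.
-/

set_option autoImplicit false
set_option linter.unusedSectionVars false
set_option linter.style.haveILetI false
set_option maxHeartbeats 1000000

open Cfsg Cfsg.FusionSystem CfsgLib.Fusion Subgroup
open scoped commutatorElement

namespace CfsgLib.OrderFive

universe u

variable {Ω : Type u} [Group Ω] {S : Subgroup Ω} [Finite S] {p : ℕ} [hp : Fact p.Prime]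
  {F : FusionSystem S}

/-- No elementary abelian essential subgroup of order `p³` when there is none of order `p⁴`. -/
theorem no_essential_cube (hS : IsPGroup p S) (hF : F.IsSaturated p) (hp2 : p ≠ 2)
    (hcardS : Nat.card S = p ^ 5) (hhyp : F.hyperfocalSubgroup p = S)
    (hna : ¬ ∃ B : Subgroup S, (∀ a ∈ B, ∀ b ∈ B, a * b = b * a) ∧ B.index = p)
    (hno4 : ∀ R : Subgroup Ω, F.IsEssential p R → Nat.card R ≠ p ^ 4)
    {E : Subgroup Ω} (hE : F.IsEssential p E) (h3 : Nat.card E = p ^ 3)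
    (hab : ∀ a b : E, a * b = b * a) (hexp : ∀ x ∈ E, x ^ p = 1) : False := by
  classical
  have hES := hE.1.1
  have := finite_of_le hES
  have : Finite (MulAut E) := finite_mulAut
  have hlt := hp.out.one_lt
  let ι : E →* S := Subgroup.inclusion hES
  have hι : Function.Injective ι := Subgroup.inclusion_injective hES
  set E' : Subgroup S := E.subgroupOf S with hE'
  have hE'c : Nat.card E' = p ^ 3 := by
    rw [Nat.card_congr (subgroupOfEquivOfLe hES).toEquiv, h3]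
  have hC : ∀ y : S, (∀ e ∈ E', e * y = y * e) → y ∈ E' := fun y hy =>
    mem_subgroupOf.2 (centralizer_mem_of_centric hE.1 y.2 fun e he =>
      congrArg Subtype.val (hy ⟨e, hES he⟩ (mem_subgroupOf.2 he)))
  have hE'comm : ∀ a ∈ E', ∀ b ∈ E', a * b = b * a := fun a ha b hb => Subtype.ext
    (congrArg Subtype.val (hab ⟨(a : Ω), ha⟩ ⟨(b : Ω), hb⟩) :)
  -- the normalizer
  have hM4 : Nat.card (normalizerIn S E) = p ^ 4 :=
    CfsgLib.MaxClassEss.card_autInduced_eq hS hF hE hab h3 hexp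
  have hMS := normalizerIn_le_S (S := S) E
  set N : Subgroup S := (normalizerIn S E).subgroupOf S with hN
  have hNc : Nat.card N = p ^ 4 := by
    rw [Nat.card_congr (subgroupOfEquivOfLe hMS).toEquiv, hM4]
  haveI hNn : N.Normal := by
    refine normal_of_index_eq_minFac_card ?_
    have h := N.card_mul_index
    rw [hNc, hcardS, pow_succ p 4] at h
    rw [Nat.eq_of_mul_eq_mul_left (pow_pos hp.out.pos 4) h, hcardS,
      Nat.Prime.pow_minFac hp.out (by norm_num)]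
  have hE'N : E' ≤ N := fun y hy => mem_subgroupOf.2 (le_normalizerIn hES hy)
  obtain ⟨s₀, hs₀⟩ : ∃ s₀ : S, s₀ ∉ N := by
    by_contra h
    push Not at h
    rw [(eq_top_iff' N).2 h, card_top, hcardS] at hNc
    exact absurd (Nat.pow_right_injective hp.out.two_le hNc) (by norm_num)
  set E2 := E'.map (MulAut.conj s₀).toMonoidHom with hE2
  have hE2c : Nat.card E2 = p ^ 3 := by
    rw [hE2, card_map_of_injective (MulAut.conj s₀).injective, hE'c]
  have hE2N : E2 ≤ N := by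
    rintro _ ⟨y, hy, rfl⟩
    exact hNn.conj_mem y (hE'N hy) s₀
  have hne : E2 ≠ E' := by
    intro h
    refine hs₀ (mem_subgroupOf.2 ⟨s₀.2, mem_normalizer_of_conj_mem hES fun y hy => ?_⟩)
    exact (h.le ⟨⟨y, hES hy⟩, hy, rfl⟩ :)
  have hsup : E' ⊔ E2 = N := by
    have h1 : E' < E' ⊔ E2 := lt_of_le_of_ne le_sup_left fun h => hne
      (eq_of_le_of_card_ge (le_sup_right.trans h.ge) (by rw [hE2c, hE'c]))
    refine eq_of_le_of_card_ge (sup_le hE'N hE2N) ?_
    have h2 := CfsgLib.Solvable.card_lt_of_lt h1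
    obtain ⟨k, hk⟩ := IsPGroup.iff_card.1 (hS.to_subgroup (E' ⊔ E2))
    rw [hE'c, hk, Nat.pow_lt_pow_iff_right hlt] at h2
    rw [hNc, hk]
    exact Nat.pow_le_pow_right hp.out.pos h2
  -- the centre of the normalizer
  have hWE : cW N ≤ E' := fun w hw => hC w fun e he =>
    mem_centralizer_iff.1 hw.2 e (hE'N he)
  obtain ⟨g₀, hg₀, hg₀E⟩ : ∃ g₀ ∈ N, g₀ ∉ E' := SetLike.not_le_iff_exists.1 fun h => by
    have := Subgroup.card_le_of_le h
    rw [hNc, hE'c, Nat.pow_le_pow_iff_right hlt] at this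
    omega
  have hWc : Nat.card (cW N) = p ^ 2 := by
    have hWlt : cW N < E' := lt_of_le_of_ne hWE fun h => hg₀E (hC g₀ fun e he =>
      (mem_centralizer_iff.1 (h.ge he).2 g₀ hg₀).symm)
    have hinf : E' ⊓ E2 ≤ cW N := by
      intro w hw
      refine ⟨hE'N hw.1, mem_centralizer_iff.2 fun n hn => ?_⟩
      have hle : E' ⊔ E2 ≤ centralizer ({w} : Set S) := by
        refine sup_le (fun y hy => mem_centralizer_singleton_iff.2 (hE'comm y hy w hw.1)) ?_
        rintro _ ⟨y, hy, rfl⟩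
        obtain ⟨w', hw', rfl⟩ := hw.2
        refine mem_centralizer_singleton_iff.2 ?_
        rw [← map_mul, ← map_mul, hE'comm y hy w' hw']
      exact mem_centralizer_singleton_iff.1 (hle (hsup.ge hn))
    have h1 : p ^ 2 ≤ Nat.card (cW N) := by
      refine le_trans ?_ (Subgroup.card_le_of_le hinf)
      have h2 := relIndex_mul_relIndex (⊥ : Subgroup S) (E' ⊓ E2) E' bot_le inf_le_left
      rw [relIndex_bot_left, relIndex_bot_left, inf_relIndex_left, hE'c] at h2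
      have h3 : E2.relIndex E' ≤ p := by
        refine (relIndex_le_of_le_right hE'N (index_ne_zero_of_finite)).trans (le_of_eq ?_)
        have h4 := relIndex_mul_relIndex (⊥ : Subgroup S) E2 N bot_le hE2N
        rw [relIndex_bot_left, relIndex_bot_left, hE2c, hNc, pow_succ p 3] at h4
        exact Nat.eq_of_mul_eq_mul_left (pow_pos hp.out.pos 3) h4
      refine Nat.le_of_mul_le_mul_right ?_ hp.out.pos
      calc p ^ 2 * p = p ^ 3 := by ring
        _ = _ := h2.symm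
        _ ≤ _ := Nat.mul_le_mul_left _ h3
    obtain ⟨k, hk⟩ := IsPGroup.iff_card.1 (hS.to_subgroup (cW N))
    have h2 := CfsgLib.Solvable.card_lt_of_lt hWlt
    rw [hk, Nat.pow_le_pow_iff_right hlt] at h1
    rw [hk, hE'c, Nat.pow_lt_pow_iff_right hlt] at h2
    rw [hk, show k = 2 by omega]
  have hmoves : ∃ n ∈ N, ∃ g : S, ⁅n, g⁆ ∉ cW N := by
    by_contra hcon
    push Not at hcon
    refine hne (eq_of_le_of_card_ge ?_ (by rw [hE2c, hE'c]))
    rintro _ ⟨y, hy, rfl⟩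
    have h := mul_mem (inv_mem (hWE (hcon y (hE'N hy) s₀))) hy
    rw [commutatorElement_inv, commutatorElement_def, inv_mul_cancel_right] at h
    exact h
  have hc : Cfg p N := ⟨hS, hcardS, hNc, hWc, hmoves⟩
  haveI := hc.normW
  haveI := hc.normA
  have hAE : ∀ y ∈ cA N, y ∈ E' → y ∈ cW N := by
    have hle : cW N ≤ cA N ⊓ E' := le_inf le_sup_left hWE
    have heq : cA N ⊓ E' = cW N := by
      refine (eq_of_le_of_card_ge hle ?_).symm
      have hlt' : cA N ⊓ E' < E' := lt_of_le_of_ne inf_le_right fun h => hne (by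
        have hEA : E' = cA N :=
          eq_of_le_of_card_ge (h.ge.trans inf_le_left) (by rw [hc.cardA, hE'c])
        refine eq_of_le_of_card_ge ?_ (by rw [hE2c, hE'c])
        rintro _ ⟨y, hy, rfl⟩
        exact hEA.ge (hc.normA.conj_mem y (hEA.le hy) s₀))
      obtain ⟨k, hk⟩ := IsPGroup.iff_card.1 (hS.to_subgroup (cA N ⊓ E'))
      have h2 := CfsgLib.Solvable.card_lt_of_lt hlt'
      rw [hk, hE'c, Nat.pow_lt_pow_iff_right hlt] at h2
      rw [hk, hWc]
      exact Nat.pow_le_pow_right hp.out.pos (by omega)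
    exact fun y hy hy' => heq.le ⟨hy, hy'⟩
  obtain ⟨e₁, he₁, he₁W⟩ : ∃ e₁ ∈ E', e₁ ∉ cW N := SetLike.not_le_iff_exists.1 fun h => by
    have := Subgroup.card_le_of_le h
    rw [hE'c, hWc, Nat.pow_le_pow_iff_right hlt] at this
    omega
  have he₁A : e₁ ∉ cA N := fun h => he₁W (hAE e₁ h he₁)
  obtain ⟨a₁, ha₁, ha₁W⟩ := SetLike.exists_of_lt hc.W_lt_A
  obtain ⟨hR, hr1, hrp, -, -⟩ := hc.R_facts (hE'N he₁) he₁A ha₁ ha₁W
  have hrE : ⁅a₁, e₁⁆ ∈ E' := hWE (hc.R_le (hR ▸ mem_zpowers _))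
  -- the shear
  letI : CommGroup E := { (inferInstance : Group E) with mul_comm := hab }
  have hEexp : ∀ y : E, y ^ p = 1 := fun y => Subtype.ext (hexp y y.2)
  obtain ⟨c, hcι⟩ : ∃ c : E, ι c = ⁅a₁, e₁⁆ := ⟨⟨_, hrE⟩, Subtype.ext rfl⟩
  set W₀ : Subgroup E := (cW N).comap ι with hW₀
  have hW₀c : Nat.card W₀ = p ^ 2 := by
    rw [← card_map_of_injective (K := W₀) hι, hW₀, map_comap_eq_self fun w hw =>
      (⟨⟨_, hWE hw⟩, Subtype.ext rfl⟩ : w ∈ ι.range), hWc]
  have hg₀M : (g₀ : Ω) ∈ normalizerIn S E := hg₀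
  set t : F.autGroup E := conjF F hES ⟨g₀, hg₀M⟩ with ht
  have hts : (t : MulAut E) ∈ autInducedBy S E := mem_autInducedBy.2 ⟨g₀, g₀.2, fun _ => rfl⟩
  have htv : ∀ y : E, ι ((t : MulAut E) y) = g₀ * ι y * g₀⁻¹ := fun y => Subtype.ext rfl
  have hgen : ∀ n ∈ N, ∃ i : ℤ, ∃ y ∈ E', n = g₀ ^ i * y := fun n hn =>
    exists_decomp hE'N (by rw [hNc, hE'c]; ring) hS hg₀ hg₀E hn
  have hfix : ∀ y : E, (t : MulAut E) y = y ↔ y ∈ W₀ := by
    intro y
    constructor
    · intro hy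
      have h1 : Commute g₀ (ι y) := mul_inv_eq_iff_eq_mul.1 ((htv y).symm.trans (congrArg ι hy))
      refine ⟨hE'N y.2, mem_centralizer_iff.2 fun n hn => ?_⟩
      obtain ⟨i, y', hy', rfl⟩ := hgen n hn
      exact ((h1.zpow_left i).mul_left (hE'comm y' hy' (ι y) y.2)).eq
    · intro hy
      refine hι ?_
      rw [htv, mul_inv_eq_iff_eq_mul]
      exact mem_centralizer_iff.1 hy.2 g₀ hg₀
  obtain ⟨R, Y, hY, hRA⟩ := CfsgLib.MaxClassEss.exists_emb hS hF hE hab
  have hsh : CfsgLib.MaxClassEss.IsShear p (R : Subgroup (F.autGroup E)) t W₀ c := by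
    refine ⟨by rw [hRA, mem_subgroupOf]; exact hts, fun h => he₁W ?_, hfix, fun y => ?_, ?_,
      orderOf_eq_prime (hEexp c) (fun h => hr1 (by rw [← hcι, h, map_one])), hW₀c⟩
    · exact (hfix ⟨(e₁ : Ω), he₁⟩).1 (by rw [h]; rfl)
    · have h1 : ⁅(ι y)⁻¹, g₀⁆ ∈ cR N :=
        commutator_mem_commutator (inv_mem (hE'N y.2)) hg₀
      rw [hR, ← hcι, ← MonoidHom.map_zpowers] at h1
      refine (Subgroup.mem_map_iff_mem hι).1 ?_
      rw [map_mul, map_inv, htv]
      simpa [commutatorElement_def, mul_assoc] using h1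
    · show ι c ∈ cW N
      rw [hcι]
      exact hc.R_le (hR ▸ mem_zpowers _)
  obtain ⟨L, μ, hμ, hroot⟩ := exists_root p
  obtain ⟨α, hαc, hαW, hαx⟩ := CfsgLib.MaxClassEss.exists_torus h3 hEexp hY hsh hμ
  set m := L * L with hm
  have htm : (α : MulAut E) * t * (α : MulAut E)⁻¹ = (t : MulAut E) ^ m := by
    rw [mul_inv_eq_iff_eq_mul]
    refine MulEquiv.ext fun y => ?_
    obtain ⟨κ, hκ⟩ := TransvectionCentre.exists_zpow hsh.mem_shear y
    have hc0 : (t : MulAut E) c = c := (hfix c).2 hsh.centre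
    have h1 : (t : MulAut E) ((α : MulAut E) y) = (α : MulAut E) y * c ^ (κ * μ) := by
      obtain ⟨w, hw, e⟩ : ∃ w ∈ W₀, (α : MulAut E) y = y ^ μ * w :=
        ⟨_, hαx y, (mul_inv_cancel_left _ _).symm⟩
      rw [e, map_mul, map_zpow, hκ, (hfix w).2 hw, mul_zpow, ← zpow_mul, mul_right_comm]
    rw [MulAut.mul_apply, MulAut.mul_apply, hκ, map_mul, map_zpow, hαc,
      zpow_apply_of_fix _ (by rw [map_zpow, hc0]) h1, ← zpow_mul, ← zpow_mul]
    congr 1
    refine zpow_congr (hEexp c) ?_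
    rw [show L * κ - κ * μ * m = -(κ * L * (L * μ - 1)) by rw [hm]; ring]
    exact (hμ.mul_left _).neg_right
  have hconjpow : ∀ i : ℤ, ∀ y : E,
      ι (((t : MulAut E) ^ i) y) = g₀ ^ i * ι y * (g₀ ^ i)⁻¹ := by
    intro i y
    have h1 : ((t : MulAut E) ^ i) =
        ((conjF F hES (⟨g₀, hg₀M⟩ ^ i) : F.autGroup E) : MulAut E) := by
      rw [map_zpow, Subgroup.coe_zpow]
    rw [h1]
    refine Subtype.ext ?_
    simp only [Subgroup.coe_mul, InvMemClass.coe_inv, SubgroupClass.coe_zpow]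
    show ((((⟨g₀, hg₀M⟩ : ↥(normalizerIn S E)) ^ i : ↥(normalizerIn S E)) : Ω)) * (y : Ω) *
      ((((⟨g₀, hg₀M⟩ : ↥(normalizerIn S E)) ^ i : ↥(normalizerIn S E)) : Ω))⁻¹ = _
    rw [SubgroupClass.coe_zpow]
    rfl
  have hαt : ∀ i : ℤ, (α : MulAut E) * (t : MulAut E) ^ i * (α : MulAut E)⁻¹ =
      (t : MulAut E) ^ (m * i) := fun i => by rw [← conj_zpow, htm, ← zpow_mul]
  have hact : ∀ n ∈ N, ∃ i : ℤ, n * (g₀ ^ i)⁻¹ ∈ E' ∧
      ∀ y : E, ι (((t : MulAut E) ^ i) y) = n * ι y * n⁻¹ := by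
    intro n hn
    obtain ⟨i, y', hy', rfl⟩ := hgen n hn
    have hEn : g₀ ^ i * y' * (g₀ ^ i)⁻¹ ∈ E' := by
      rw [show g₀ ^ i * y' * (g₀ ^ i)⁻¹ = ι (((t : MulAut E) ^ i) ⟨(y' : Ω), hy'⟩) by
        rw [hconjpow]; rfl]
      exact (((t : MulAut E) ^ i) ⟨(y' : Ω), hy'⟩).2
    refine ⟨i, hEn, fun y => ?_⟩
    rw [hconjpow, mul_inv_rev]
    calc g₀ ^ i * ι y * (g₀ ^ i)⁻¹ = g₀ ^ i * (y' * ι y * y'⁻¹) * (g₀ ^ i)⁻¹ := by
          rw [hE'comm y' hy' (ι y) y.2, mul_inv_cancel_right]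
      _ = _ := by group
  have hnorm : ∀ τ ∈ autInducedBy S E,
      (α : MulAut E) * τ * (α : MulAut E)⁻¹ ∈ autInducedBy S E := by
    intro τ hτ
    obtain ⟨u, hu, hue⟩ := mem_autInducedBy.1 hτ
    obtain ⟨i, -, hi⟩ := hact ⟨u, hu⟩ (mem_subgroupOf.2 ⟨hu, mem_normalizer_of_aut hue⟩)
    rw [show τ = (t : MulAut E) ^ i from MulEquiv.ext fun y => Subtype.ext
      ((hue y).trans (congrArg Subtype.val (hi y)).symm), hαt]
    exact zpow_mem hts _
  -- extension
  obtain ⟨β, hβ, hβe⟩ := ext_of_normalizes hS hF hE.2.1 rfl α.2 hnorm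
  obtain ⟨χ, -, hχ⟩ := ext_top hS hF hcardS hMS hM4 (fun h => hno4 _ h hM4) hβ
  have hχι : ∀ y : E, χ (ι y) = ι ((α : MulAut E) y) := fun y => Subtype.ext
    ((hχ ⟨y, le_normalizerIn hES y.2⟩ (hES y.2)).trans (hβe y (le_normalizerIn hES y.2)))
  have hχN : N.map χ.toMonoidHom = N := by
    refine eq_of_le_of_card_ge ?_ (card_map_of_injective χ.injective).ge
    rintro _ ⟨n, hn, rfl⟩
    refine mem_subgroupOf.2 ?_
    show ((χ n : S) : Ω) ∈ normalizerIn S E
    rw [show n = ⟨((⟨(n : Ω), hn⟩ : normalizerIn S E) : Ω), n.2⟩ from rfl, hχ]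
    exact (β ⟨(n : Ω), hn⟩).2
  have hχA : ∀ y ∈ cA N, χ y ∈ cA N := by
    have hle : (cA N).map χ.toMonoidHom ≤ cA N := by
      rw [cA, Subgroup.map_sup, Subgroup.map_commutator, hχN,
        map_top_of_surjective χ.toMonoidHom χ.surjective]
      refine sup_le_sup_right ?_ _
      rintro _ ⟨w, hw, rfl⟩
      refine ⟨hχN.le ⟨w, hw.1, rfl⟩, mem_centralizer_iff.2 fun n hn => ?_⟩
      obtain ⟨n', hn', rfl⟩ := hχN.ge hn
      rw [← map_mul, ← map_mul, mem_centralizer_iff.1 hw.2 n' hn']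
    exact fun y hy => hle ⟨y, hy, rfl⟩
  have h4ne : p ≠ 4 := fun h => by have := hp.out; rw [h] at this; norm_num at this
  have h6ne : p ≠ 6 := fun h => by have := hp.out; rw [h] at this; norm_num at this
  have h2le := hp.out.two_le
  refine hc.false_of_weights hS hF hhyp hp2 hna (χ := χ) (e := e₁) (hE'N he₁) he₁A (α := m)
    (β := μ) ?_ (fun a ha => ?_) (fun w hw => ?_) (fun h4 => hroot 5 (fun hd => ?_) ?_)
    (fun h5 hb => hroot 2 (fun hd => ?_) ?_)
  · refine mem_sup_left ?_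
    have h1 : ι ((((⟨(e₁ : Ω), he₁⟩ : E)) ^ μ)⁻¹ * (α : MulAut E) ⟨(e₁ : Ω), he₁⟩) ∈ cW N :=
      hαx _
    rw [map_mul, map_inv, map_zpow, ← hχι] at h1
    exact h1
  · have haN := hc.A_le ha
    refine hAE _ (mul_mem (inv_mem (zpow_mem ha m)) (hχA a ha)) (hC _ fun e he => ?_)
    obtain ⟨i, -, hi⟩ := hact a haN
    obtain ⟨i', -, hi'⟩ := hact (a ^ m) (zpow_mem haN m)
    -- `χ a` and `a ^ m` act alike on `E`
    obtain ⟨y, rfl⟩ : ∃ y : E, ι y = e := ⟨⟨_, he⟩, Subtype.ext rfl⟩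
    obtain ⟨z, rfl⟩ := (α : MulAut E).surjective y
    have h1 : χ a * ι ((α : MulAut E) z) * (χ a)⁻¹ =
        ι (((t : MulAut E) ^ (m * i)) ((α : MulAut E) z)) := by
      rw [← hαt, MulAut.mul_apply, MulAut.mul_apply, MulAut.inv_apply_self, ← hχι, ← hχι,
        ← map_inv, ← map_mul, ← map_mul, hi]
    have h2 : ((t : MulAut E) ^ (m * i)) = (t : MulAut E) ^ i' := by
      refine MulEquiv.ext fun v => hι ?_
      rw [hi']
      have hpow : ∀ (k : ℤ) (v : E),
          ι ((((t : MulAut E) ^ i) ^ k) v) = a ^ k * ι v * (a ^ k)⁻¹ := by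
        intro k
        induction k with
        | zero => intro v; simp
        | succ k ih =>
          intro v
          rw [zpow_add_one, MulAut.mul_apply, ih, hi, zpow_add_one]
          group
        | pred k ih =>
          intro v
          obtain ⟨v', rfl⟩ := ((t : MulAut E) ^ i).surjective v
          rw [zpow_sub_one, MulAut.mul_apply, MulAut.inv_apply_self, ih, hi, zpow_sub_one]
          group
      rw [mul_comm m i, zpow_mul, hpow]
    rw [h2, hi'] at h1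
    set w := ι ((α : MulAut E) z)
    calc w * ((a ^ m)⁻¹ * χ a) = (a ^ m)⁻¹ * (a ^ m * w * (a ^ m)⁻¹) * χ a := by group
      _ = (a ^ m)⁻¹ * (χ a * w * (χ a)⁻¹) * χ a := by rw [h1]
      _ = (a ^ m)⁻¹ * χ a * w := by group
  · obtain ⟨w', rfl⟩ : ∃ w' : E, ι w' = w := ⟨⟨_, hWE hw⟩, Subtype.ext rfl⟩
    rw [hR, ← hcι, hχι, ← map_inv, ← map_mul, ← MonoidHom.map_zpowers]
    exact mem_map_of_mem ι (hαW w' hw)
  · have := Nat.le_of_dvd (by norm_num) hd
    obtain ⟨q, hq⟩ := hd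
    have : p = 3 ∨ p = 5 := by omega
    rcases this with rfl | rfl <;> omega
  · rw [show L ^ 5 - 1 = L * (m * m - μ) + (L * μ - 1) by rw [hm]; ring]
    exact dvd_add (h4.mul_left L) hμ
  · have := Nat.le_of_dvd (by norm_num) hd
    omega
  · rw [show L ^ 2 - 1 = -(L * L * (μ * μ - 1)) + (L * μ + 1) * (L * μ - 1) by ring]
    exact dvd_add ((hb.mul_left (L * L)).neg_right) (hμ.mul_left _)

end CfsgLib.OrderFive
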