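import Cfsg.Agent.Fusion.OrderFive.Conclude
import Cfsg.Agent.Fusion.FourthEssential
import Cfsg.Agent.BlocksB.PFour

/-!
No essential subgroup of order `p⁴`.
-/

set_option autoImplicit false
set_option linter.unusedSectionVars false
set_option linter.style.haveILetI false
set_option maxHeartbeats 1000000

open Cfsg Cfsg.FusionSystem CfsgLib.Fusion Subgroup
open scoped commutatorElement

namespace CfsgLib.OrderFive

universe u

theorem card_center_prod {H E₀ M : Type*} [Group H] [Group E₀] [CommGroup M] (e : H ≃* E₀ × M) :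
    Nat.card (center H) = Nat.card (center E₀) * Nat.card M := by
  have h : (center H).map e.toMonoidHom = (center E₀).prod ⊤ := by
    ext ⟨a, b⟩
    rw [Subgroup.mem_map_equiv, mem_center_iff, Subgroup.mem_prod]
    constructor
    · intro h
      refine ⟨mem_center_iff.2 fun x => ?_, trivial⟩
      simpa using congrArg Prod.fst (congrArg e (h (e.symm (x, 1))))
    · rintro ⟨ha, -⟩ g
      apply e.injective
      simp only [map_mul, MulEquiv.apply_symm_apply]
      exact Prod.ext (mem_center_iff.1 ha _) (mul_comm _ _)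
  rw [← card_map_of_injective (K := center H) (f := e.toMonoidHom) e.injective, h,
    Nat.card_congr (Subgroup.prodEquiv _ _).toEquiv, Nat.card_prod, card_top]

variable {Ω : Type u} [Group Ω] {S : Subgroup Ω} [Finite S] {p : ℕ} [hp : Fact p.Prime]
  {F : FusionSystem S}

/-- No essential subgroup of order `p⁴` under the standing hypotheses. -/
theorem no_essential_fourth (hS : IsPGroup p S) (hF : F.IsSaturated p) (hp2 : p ≠ 2)
    (hcardS : Nat.card S = p ^ 5) (hhyp : F.hyperfocalSubgroup p = S)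
    (hna : ¬ ∃ B : Subgroup S, (∀ a ∈ B, ∀ b ∈ B, a * b = b * a) ∧ B.index = p)
    {E : Subgroup Ω} (hE : F.IsEssential p E) (hEc : Nat.card E = p ^ 4) : False := by
  classical
  have hES := hE.1.1
  have := finite_of_le hES
  have : Finite (MulAut E) := finite_mulAut
  have hEp := isPGroup_of_le hS hES
  let ι : E →* S := Subgroup.inclusion hES
  have hι : Function.Injective ι := Subgroup.inclusion_injective hES
  set N : Subgroup S := E.subgroupOf S with hNdef
  have hNr : ι.range = N := by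
    ext x
    exact ⟨by rintro ⟨y, rfl⟩; exact y.2, fun hx => ⟨⟨x, hx⟩, Subtype.ext rfl⟩⟩
  have hNc : Nat.card N = p ^ 4 := by
    rw [Nat.card_congr (subgroupOfEquivOfLe hES).toEquiv, hEc]
  have hNi : N.index = p := by
    have h := N.card_mul_index
    rw [hNc, hcardS, pow_succ p 4] at h
    exact Nat.eq_of_mul_eq_mul_left (pow_pos hp.out.pos 4) h
  -- the centre of `E`
  have hne : ¬ ∀ a b : E, a * b = b * a := fun h => hna ⟨N, fun a ha b hb => Subtype.ext
    (congrArg Subtype.val (h ⟨a, ha⟩ ⟨b, hb⟩) :), hNi⟩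
  have hZc : Nat.card (center E) = p ^ 2 := by
    rcases FourthEssential.essential_fourth hS hF hE hEc with h | ⟨⟨e⟩⟩ | ⟨-, ⟨e⟩⟩ |
      ⟨-, E₀, hG₀, hf₀, hx, -, -, ⟨e⟩⟩ | ⟨h2, -⟩ | ⟨-, -, -, h⟩
    · exact absurd h.1.is_comm.comm hne
    · exact absurd (fun a b => e.injective (by rw [map_mul, map_mul, mul_comm])) hne
    · exact absurd (fun a b => e.injective (by rw [map_mul, map_mul, mul_comm])) hne
    · rw [card_center_prod e, hx.2, Nat.card_congr Multiplicative.toAdd, Nat.card_zmod, sq]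
    · exact absurd h2 hp2
    · exact h
  have hZi : (center E).index = p ^ 2 := by
    have h := (center E).card_mul_index
    rw [hZc, hEc, show p ^ 4 = p ^ 2 * p ^ 2 by rw [← pow_add]] at h
    exact Nat.eq_of_mul_eq_mul_left (pow_pos hp.out.pos 2) h
  have hRc : Nat.card (commutator E) = p :=
    CfsgLib.PFour.card_commutator_of_center_index_sq hEp hZi
  have hcomm : ∀ a b : E ⧸ center E, a * b = b * a :=
    (IsPGroup.isMulCommutative_of_card_eq_prime_sq (p := p)
      ((Subgroup.index_eq_card _).symm.trans hZi)).is_comm.comm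
  have hRZ : commutator E ≤ center E := by
    rw [_root_.commutator_def, commutator_le]
    intro a _ b _
    rw [← QuotientGroup.eq_one_iff, ← QuotientGroup.mk'_apply, map_commutatorElement]
    exact commutatorElement_eq_one_iff_mul_comm.2 (hcomm _ _)
  have hW : (center E).map ι = cW N := by
    ext x
    constructor
    · rintro ⟨z, hz, rfl⟩
      exact ⟨z.2, mem_centralizer_iff.2 fun n hn => Subtype.ext
        (congrArg Subtype.val (mem_center_iff.1 hz ⟨n, hn⟩) :)⟩
    · rintro ⟨hx, hxc⟩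
      exact ⟨⟨x, hx⟩, mem_center_iff.2 fun n => Subtype.ext
        (congrArg Subtype.val (mem_centralizer_iff.1 hxc ⟨n, hES n.2⟩ n.2) :), Subtype.ext rfl⟩
  have hR : (commutator E).map ι = cR N := by
    rw [cR, _root_.commutator_def, Subgroup.map_commutator, ← MonoidHom.range_eq_map, hNr]
  -- the action on the plane `E / Z(E)`
  letI : CommGroup (E ⧸ center E) :=
    { (inferInstance : Group (E ⧸ center E)) with mul_comm := hcomm }
  have hRi : ∀ α : MulAut E, ∀ x ∈ commutator E, α x ∈ commutator E := fun α x hx =>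
    characteristic_iff_le_comap.1 inferInstance α hx
  have hZi' : ∀ α : MulAut E, ∀ x ∈ center E, α x ∈ center E := fun α x hx =>
    characteristic_iff_le_comap.1 (inferInstance : (center E).Characteristic) α hx
  let ρ : F.autGroup E →* MulAut (E ⧸ center E) :=
    CfsgLib.Coprime.quotientAut (F.autGroup E).subtype (center E) fun a x hx => hZi' _ x hx
  let π := QuotientGroup.mk' (center E)
  have hρ : ∀ (α : F.autGroup E) (x : E), ρ α (π x) = π ((α : MulAut E) x) := fun α x => rfl
  have hA : Nat.card (E ⧸ center E) = p ^ 2 := (Subgroup.index_eq_card _).symm.trans hZi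
  have hstable : ∀ u : ↥(normalizerIn S E),
      (∀ x ∈ commutator E, ((conjF F hES u : F.autGroup E) : MulAut E) x = x) ∧
      ∀ x ∈ center E, x⁻¹ * ((conjF F hES u : F.autGroup E) : MulAut E) x ∈ commutator E := by
    intro u
    obtain ⟨k, hk⟩ := isPGroup_autInducedBy hS E
      ⟨conjAut S E u, mem_autInducedBy.2 ⟨u, u.2.1, fun _ => rfl⟩⟩
    have hk' : (((conjF F hES u : F.autGroup E) : MulAut E)) ^ p ^ k = 1 := congrArg Subtype.val hk
    refine ⟨fun x hx => ?_, FourthEssential.layer_trivial _ _ hRZ (by rw [hZc, hRc, sq]) _ hk'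
      (hRi _) (hZi' _)⟩
    exact (inv_mul_eq_one.1 (mem_bot.1 (FourthEssential.layer_trivial (⊥ : Subgroup E)
      (commutator E) bot_le (by rw [hRc, card_bot, mul_one]) _ hk'
      (fun y hy => by rw [mem_bot.1 hy, map_one]; exact one_mem _) (hRi _) x hx))).symm
  -- `E` is moved modulo its centre
  have hmoves : ∃ n ∈ N, ∃ g : S, ⁅n, g⁆ ∉ cW N := by
    by_contra hcon
    push Not at hcon
    obtain ⟨g, hg, hgE⟩ :=
      SetLike.exists_of_lt (lt_normalizerIn p hS le_rfl (essential_lt p hS hF hE))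
    let M : Subgroup (MulAut E) :=
      { carrier := {γ | ∀ x ∈ commutator E, γ x = x}
        one_mem' := fun x _ => rfl
        mul_mem' := fun {a b} ha hb x hx => by rw [MulAut.mul_apply, hb x hx, ha x hx]
        inv_mem' := fun {a} ha x hx => by
          conv_lhs => rw [← ha x hx]
          exact MulAut.inv_apply_self E a x }
    refine hgE (mem_of_chain p hS hE.1 (isRadical_of_essential p hS hE)
      ![commutator E, center E, ⊤] rfl (fun α _ i => ?_) M (fun α hα γ _ hγ x hx => ?_)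
      (fun γ _ hγ => ⟨0, fun x hx => by rw [pow_zero, pow_one]; exact hγ x hx⟩) hg
      (fun i => ?_) (hstable ⟨g, hg⟩).1)
    · fin_cases i
      · exact hRi α
      · exact hZi' α
      · exact fun _ _ => trivial
    · rw [MulAut.mul_apply, MulAut.mul_apply, hγ _ (hRi α⁻¹ x hx), MulAut.apply_inv_self]
    · fin_cases i
      · exact (hstable ⟨g, hg⟩).2
      · intro x _
        have h1 := hcon ⟨(x : Ω), hES x.2⟩⁻¹ (inv_mem x.2 : (x : Ω)⁻¹ ∈ E) ⟨g, hg.1⟩
        rw [← hW] at h1
        obtain ⟨z, hz, hze⟩ := h1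
        show x⁻¹ * conjAut S E ⟨g, hg⟩ x ∈ center E
        have : z = x⁻¹ * conjAut S E ⟨g, hg⟩ x := Subtype.ext (by
          have := congrArg Subtype.val hze
          simpa [ι, commutatorElement_def, mul_assoc] using this)
        exact this ▸ hz
  have hc : Cfg p N := ⟨hS, hcardS, hNc, by rw [← hW, card_map_of_injective hι, hZc], hmoves⟩
  have hAexp : ∀ x : E ⧸ center E, x ^ p = 1 := by
    intro q
    obtain ⟨x, rfl⟩ := QuotientGroup.mk'_surjective (center E) q
    rw [← map_pow]
    refine (QuotientGroup.eq_one_iff _).2 ?_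
    have h := hc.quot_facts.1 (ι x) x.2
    rw [← map_pow, ← hW] at h
    exact (Subgroup.mem_map_iff_mem hι).1 h
  have hNS : normalizerIn S E = S := by
    refine le_antisymm (normalizerIn_le_S E) fun s hs => ⟨hs, mem_normalizer_of_conj_mem hES ?_⟩
    haveI := hc.normN
    intro x hx
    exact (hc.normN.conj_mem (⟨x, hES hx⟩ : S) hx ⟨s, hs⟩ :)
  -- the shears
  obtain ⟨c, hc1, hcent⟩ := exists_plane_centre hE.1 hA hAexp ρ hS
  obtain ⟨g, hg, ht1⟩ : ∃ (g : Ω) (hg : g ∈ normalizerIn S E), ρ (conjF F hES ⟨g, hg⟩) ≠ 1 := by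
    obtain ⟨n, hn, g, hng⟩ := hmoves
    refine ⟨g, hNS.symm ▸ g.2, fun h => hng ?_⟩
    obtain ⟨n', rfl⟩ : ∃ n' : E, ι n' = n := ⟨⟨n, hn⟩, Subtype.ext rfl⟩
    have h1 := DFunLike.congr_fun h (π n'⁻¹)
    rw [hρ, MulAut.one_apply] at h1
    have h2 := QuotientGroup.eq.1 h1.symm
    rw [← hW]
    refine ⟨_, h2, Subtype.ext ?_⟩
    simp [ι, commutatorElement_def, coe_conjF, mul_assoc]
  set t := ρ (conjF F hES ⟨g, hg⟩) with htdef
  have hts : t ∈ TransvectionCentre.shear ρ.range c := hcent ⟨g, hg⟩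
  obtain ⟨α₁, hmove⟩ : ∃ α₁ : F.autGroup E, ρ α₁ c ∉ zpowers c := by
    by_contra hcon
    push Not at hcon
    have hle : commutator E ≤ (zpowers c).comap π := fun x hx => by
      show π x ∈ zpowers c
      rw [show π x = 1 from (QuotientGroup.eq_one_iff _).2 (hRZ hx)]
      exact one_mem _
    have hCc : Nat.card ((zpowers c).comap π) = p ^ 3 := by
      have h := ((zpowers c).comap π).card_mul_index
      have hi : (zpowers c).index = p := by
        have h' := (zpowers c).card_mul_index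
        rw [Nat.card_zpowers, orderOf_eq_prime (hAexp c) hc1, hA, sq] at h'
        exact Nat.eq_of_mul_eq_mul_left hp.out.pos h'
      rw [index_comap_of_surjective _ (QuotientGroup.mk'_surjective _), hi, hEc, pow_succ p 3] at h
      exact Nat.eq_of_mul_eq_mul_right hp.out.pos h
    refine FourthEssential.flag_false hS hF hE (m := 3)
      ![commutator E, center E, (zpowers c).comap π, ⊤] ?_ ?_ ?_ rfl hRc ?_
    · intro i
      fin_cases i
      · exact inferInstanceAs (commutator E).Normal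
      · exact inferInstanceAs (center E).Normal
      · exact Subgroup.normal_comap _
      · exact inferInstanceAs (⊤ : Subgroup E).Normal
    · intro i α hα x hx
      fin_cases i
      · exact hRi α x hx
      · exact hZi' α x hx
      · obtain ⟨j, hj⟩ := mem_zpowers_iff.1 (hx : π x ∈ zpowers c)
        show π (α x) ∈ zpowers c
        rw [← hρ ⟨α, hα⟩, ← hj, map_zpow]
        exact zpow_mem (hcon _) j
      · trivial
    · refine Fin.monotone_iff_le_succ.2 fun i => ?_
      fin_cases i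
      · exact hRZ
      · intro x hx
        show π x ∈ zpowers c
        rw [show π x = 1 from (QuotientGroup.eq_one_iff _).2 hx]
        exact one_mem _
      · exact le_top
    · intro i
      fin_cases i
      · show Nat.card (center E) = p * Nat.card (commutator E)
        rw [hZc, hRc, sq]
      · show Nat.card ((zpowers c).comap π) = p * Nat.card (center E)
        rw [hCc, hZc]; ring
      · show Nat.card (⊤ : Subgroup E) = p * Nat.card ((zpowers c).comap π)
        rw [card_top, hEc, hCc]; ring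
  -- automorphisms trivial on the lower layers
  let X₀ : Subgroup (F.autGroup E) :=
    { carrier := {γ | (∀ x ∈ commutator E, (γ : MulAut E) x = x) ∧
        ∀ x ∈ center E, x⁻¹ * (γ : MulAut E) x ∈ commutator E}
      one_mem' := ⟨fun x _ => rfl, fun x _ => by simp⟩
      mul_mem' := by
        rintro a b ⟨ha1, ha2⟩ ⟨hb1, hb2⟩
        refine ⟨fun x hx => by rw [Subgroup.coe_mul, MulAut.mul_apply, hb1 x hx, ha1 x hx],
          fun x hx => ?_⟩
        have h1 := ha2 _ (hZi' (b : MulAut E) x hx)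
        have h2 := mul_mem (hb2 x hx) h1
        rwa [mul_assoc, mul_inv_cancel_left] at h2
      inv_mem' := by
        rintro a ⟨ha1, ha2⟩
        refine ⟨fun x hx => ?_, fun x hx => ?_⟩
        · rw [InvMemClass.coe_inv]
          conv_lhs => rw [← ha1 x hx]
          exact MulAut.inv_apply_self E _ x
        · rw [InvMemClass.coe_inv]
          have h := inv_mem (ha2 _ (hZi' (a : MulAut E)⁻¹ x hx))
          rwa [MulAut.apply_inv_self, mul_inv_rev, inv_inv] at h }
  haveI : X₀.Normal := ⟨fun γ hγ α => by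
    obtain ⟨h1, h2⟩ := hγ
    refine ⟨fun x hx => ?_, fun x hx => ?_⟩
    · simp only [Subgroup.coe_mul, InvMemClass.coe_inv, MulAut.mul_apply]
      rw [h1 _ (hRi (α : MulAut E)⁻¹ x hx), MulAut.apply_inv_self]
    · simp only [Subgroup.coe_mul, InvMemClass.coe_inv, MulAut.mul_apply]
      have h3 := hRi (α : MulAut E) _ (h2 _ (hZi' (α : MulAut E)⁻¹ x hx))
      rwa [map_mul, map_inv, MulAut.apply_inv_self] at h3⟩
  have hXc : ∀ u : ↥(normalizerIn S E), conjF F hES u ∈ X₀ := hstable
  set G₀ : Subgroup (MulAut (E ⧸ center E)) := X₀.map ρ with hG₀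
  have htG : t ∈ TransvectionCentre.shear G₀ c := ⟨⟨_, hXc _, rfl⟩, hts.2.1, hts.2.2⟩
  obtain ⟨f, hf, hfc⟩ : ∃ f ∈ G₀, f c ∉ zpowers c := by
    refine ⟨ρ (α₁ * conjF F hES ⟨g, hg⟩ * α₁⁻¹),
      ⟨_, (inferInstance : X₀.Normal).conj_mem _ (hXc _) _, rfl⟩, ?_⟩
    rw [map_mul, map_mul, map_inv, ← htdef]
    intro hmem
    have hu := TransvectionCentre.conj_shear hts (MonoidHom.mem_range.2 ⟨α₁, rfl⟩ : ρ α₁ ∈ ρ.range)
    have hu1 : ρ α₁ * t * (ρ α₁)⁻¹ ≠ 1 := fun h => ht1 (conj_eq_one_iff.1 h)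
    obtain ⟨n, hn⟩ := TransvectionCentre.exists_zpow hu c
    rw [hn] at hmem
    have hn0 : (ρ α₁ c) ^ n ∈ zpowers c := (mul_mem_cancel_left (mem_zpowers c)).1 hmem
    have hdv : (p : ℤ) ∣ n := dvd_of_zpow_mem (by rw [hAexp]; exact one_mem _) hmove hn0
    rw [zpow_congr (hAexp _) (j := 0) (by simpa using hdv), zpow_zero, mul_one] at hn
    have hne1 : ρ α₁ c ≠ 1 := fun h => hmove (h ▸ one_mem _)
    exact hmove (TransvectionCentre.mem_zpowers_swap (orderOf_eq_prime (hAexp _) hne1)
      (mem_centre_of_fix hA hAexp hne1 hu hu1 hn) hc1)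
  obtain ⟨L, μ, hμ, hroot⟩ := exists_root p
  obtain ⟨h, ⟨α₀, hα₀, rfl⟩, hhc, hhd⟩ := exists_diag hA hAexp hc1 htG ht1 hf hfc hμ
  set d := f c with hddef
  have hμ' : (p : ℤ) ∣ μ * L - 1 := by rwa [mul_comm]
  -- extension to `S`
  let K₀ : Subgroup (F.autGroup E) := X₀ ⊓ ρ.ker
  have hK₀ : IsPGroup p K₀ := by
    rintro ⟨γ, ⟨hγ1, hγ2⟩, hγ3⟩
    obtain ⟨k, hk⟩ := exists_pow_fix hEp (γ : MulAut E) ![commutator E, center E, ⊤]
      (fun i => by
        fin_cases i
        · exact hRi _
        · exact hZi' _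
        · exact fun _ _ => trivial)
      (fun i => by
        fin_cases i
        · exact hγ2
        · intro x _
          exact QuotientGroup.eq.1 (DFunLike.congr_fun (MonoidHom.mem_ker.1 hγ3) (π x)).symm)
      ⟨0, fun x hx => by rw [pow_zero, pow_one]; exact hγ1 x hx⟩ 2
    exact ⟨k, Subtype.ext (Subtype.ext (MulEquiv.ext fun x => hk x trivial))⟩
  haveI : K₀.Normal := Subgroup.normal_inf_normal X₀ ρ.ker
  have hnorm : ∀ τ ∈ autInducedBy S E,
      (α₀ : MulAut E) * τ * (α₀ : MulAut E)⁻¹ ∈ autInducedBy S E := by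
    intro τ hτ
    obtain ⟨u, hu, hue⟩ := mem_autInducedBy.1 hτ
    set U : ↥(normalizerIn S E) := ⟨u, hNS.symm ▸ hu⟩
    obtain rfl : τ = ((conjF F hES U : F.autGroup E) : MulAut E) :=
      MulEquiv.ext fun x => Subtype.ext (hue x)
    set m := L * L
    set δ := α₀ * conjF F hES U * α₀⁻¹ * (conjF F hES (U ^ m))⁻¹ with hδ
    have hδK : δ ∈ K₀ := by
      refine ⟨X₀.mul_mem (X₀.mul_mem (X₀.mul_mem hα₀ (hXc U)) (X₀.inv_mem hα₀)) (X₀.inv_mem (hXc _)),
        MonoidHom.mem_ker.2 ?_⟩
      rw [hδ, map_mul, map_mul, map_mul, map_inv, map_inv,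
        diag_conj hA hAexp hc1 hfc (hcent U) hμ' hhc hhd, ← map_zpow ρ, ← map_zpow (conjF F hES),
        mul_inv_cancel]
    have h1 := inn_le_autInducedBy (S := S) hES (mem_inn_of_normal hS hE hK₀ hδK)
    have h2 : ((conjF F hES (U ^ m) : F.autGroup E) : MulAut E) ∈ autInducedBy S E :=
      mem_autInducedBy.2 ⟨_, (U ^ m).2.1, fun _ => rfl⟩
    have h3 := mul_mem h1 h2
    simp only [hδ, Subgroup.coe_mul, InvMemClass.coe_inv, inv_mul_cancel_right] at h3
    exact h3
  obtain ⟨χ, -, hχe⟩ := ext_of_normalizes hS hF hE.2.1 hNS α₀.2 hnorm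
  have hχι : ∀ x : E, χ (ι x) = ι ((α₀ : MulAut E) x) := fun x => Subtype.ext (hχe x _)
  -- the weights
  obtain ⟨ed, hed⟩ := QuotientGroup.mk'_surjective (center E) d
  have hAC : cA N ≤ ((zpowers c).comap π).map ι := by
    rw [cA, ← hW]
    refine sup_le (Subgroup.map_mono fun x hx => ?_) ((commutator_le).2 fun n hn s _ => ?_)
    · show π x ∈ zpowers c
      rw [show π x = 1 from (QuotientGroup.eq_one_iff _).2 hx]
      exact one_mem _
    · obtain ⟨n', rfl⟩ : ∃ n' : E, ι n' = n := ⟨⟨n, hn⟩, Subtype.ext rfl⟩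
      refine ⟨n' * ((conjF F hES ⟨s, hNS.symm ▸ s.2⟩ : F.autGroup E) : MulAut E) n'⁻¹, ?_,
        Subtype.ext ?_⟩
      · show π _ ∈ zpowers c
        rw [map_mul, ← hρ]
        obtain ⟨i, hi⟩ :=
          TransvectionCentre.exists_zpow (hcent ⟨s, hNS.symm ▸ s.2⟩) (π n'⁻¹)
        rw [hi, map_inv, mul_inv_cancel_left]
        exact zpow_mem (mem_zpowers c) i
      · simp [ι, commutatorElement_def, coe_conjF, mul_assoc]
  have hedA : ι ed ∉ cA N := fun h => hfc (hed ▸ (Subgroup.mem_map_iff_mem hι).1 (hAC h))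
  have hp1 := hp.out.one_lt
  refine hc.false_of_weights hS hF hhyp hp2 hna (χ := χ) (e := ι ed) ed.2 hedA (α := L) (β := μ)
    ?_ (fun a ha => ?_) (fun w hw => ?_) (fun h3 => hroot 3 (fun hd => ?_) ?_)
    (fun h5 h2 => hroot 2 (fun hd => ?_) ?_)
  · refine mem_sup_left ?_
    rw [← hW]
    refine ⟨(ed ^ μ)⁻¹ * (α₀ : MulAut E) ed, QuotientGroup.eq.1 ?_, ?_⟩
    · show π (ed ^ μ) = π _
      rw [← hρ, map_zpow, hed, ← hhd]
    · rw [map_mul, map_inv, map_zpow, hχι]
  · obtain ⟨a', ha', rfl⟩ := hAC ha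
    obtain ⟨i, hi⟩ := mem_zpowers_iff.1 (ha' : π a' ∈ zpowers c)
    rw [← hW]
    refine ⟨(a' ^ L)⁻¹ * (α₀ : MulAut E) a', QuotientGroup.eq.1 ?_, ?_⟩
    · show π (a' ^ L) = π _
      rw [← hρ, map_zpow, ← hi, map_zpow, hhc, ← zpow_mul, ← zpow_mul, mul_comm]
    · rw [map_mul, map_inv, map_zpow, hχι]
  · rw [← hW] at hw
    obtain ⟨w', hw', rfl⟩ := hw
    rw [← hR, hχι, ← map_inv, ← map_mul]
    exact mem_map_of_mem ι (hα₀.2 w' hw')
  · have := Nat.le_of_dvd (by norm_num) hd
    have := hp.out.two_le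
    have : p ≠ 4 := fun h => by have := hp.out; rw [h] at this; norm_num at this
    have : p = 3 := by omega
    subst this
    norm_num at hd
  · rw [show L ^ 3 - 1 = L * (L * L - μ) + (L * μ - 1) by ring]
    exact dvd_add (h3.mul_left L) hμ
  · have := Nat.le_of_dvd (by norm_num) hd
    omega
  · rw [show L ^ 2 - 1 = -(L * L * (μ * μ - 1)) + (L * μ + 1) * (L * μ - 1) by ring]
    exact dvd_add ((h2.mul_left (L * L)).neg_right) (hμ.mul_left _)

end CfsgLib.OrderFive
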