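import Cfsg.Agent.Fusion.OrderFive.Slim
import Cfsg.Agent.Fusion.OrderFive.Conclude
import Cfsg.Agent.Fusion.SmallEssential
import Cfsg.Agent.Fusion.CubeEssential
import Cfsg.Agent.PearlMC.Element
import Cfsg.Agent.PearlMC.Three

/-!
No pearls.
-/

set_option autoImplicit false
set_option linter.unusedSectionVars false
set_option linter.style.haveILetI false
set_option maxHeartbeats 1000000

open Cfsg Cfsg.FusionSystem CfsgLib.Fusion Subgroup CfsgLib.PearlMC
open scoped commutatorElement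

namespace CfsgLib.OrderFive

universe u

theorem zmod_three' : ∀ U V : ZMod 3, U - V * V = 0 → ¬V = 0 → U - 1 = 0 := by decide

variable {Ω : Type u} [Group Ω] {S : Subgroup Ω} [Finite S] {p : ℕ} [hp : Fact p.Prime]
  {F : FusionSystem S}

/-- The index of a plane subgroup in its normalizer and the extension of a torus to the normalizer. -/
theorem torus_ext (hS : IsPGroup p S) (hF : F.IsSaturated p) {E : Subgroup Ω}
    (hE : F.IsEssential p E) {A : Type u} [CommGroup A] [Finite A] (hA : Nat.card A = p ^ 2)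
    (hAexp : ∀ x : A, x ^ p = 1) (ρ : F.autGroup E →* MulAut A)
    (hK : ∀ α, ρ α = 1 → ∃ n : ℕ, (α : MulAut E) ^ p ^ n = 1)
    {L μ : ℤ} (hμ : (p : ℤ) ∣ L * μ - 1) :
    Nat.card (normalizerIn S E) = p * Nat.card E ∧
    ∃ (g : Ω) (hg : g ∈ normalizerIn S E) (c d : A) (α : F.autGroup E),
      g ∉ E ∧ c ≠ 1 ∧ d ∉ zpowers c ∧ ρ (conjF F hE.1.1 ⟨g, hg⟩) ≠ 1 ∧
      ρ (conjF F hE.1.1 ⟨g, hg⟩) ∈ TransvectionCentre.shear ρ.range c ∧
      ρ α c = c ^ L ∧ ρ α d = d ^ μ ∧ Ext F E (normalizerIn S E) (α : MulAut E) := by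
  classical
  have hES := hE.1.1
  have := finite_of_le hES
  obtain ⟨hker, g, hg, c, hgE, hc1, hcent, ht1, ⟨f, hf, hfc⟩, -⟩ :=
    essential_plane hS hE hA hAexp ρ hK hF
  obtain ⟨h, ⟨α, rfl⟩, hhc, hhd⟩ := exists_diag hA hAexp hc1 (hcent ⟨g, hg⟩) ht1 hf hfc hμ
  have hμ' : (p : ℤ) ∣ μ * L - 1 := by rwa [mul_comm]
  have hnorm : ∀ τ ∈ autInducedBy S E,
      (α : MulAut E) * τ * (α : MulAut E)⁻¹ ∈ autInducedBy S E := by
    intro τ hτ
    obtain ⟨u, hu, hue⟩ := mem_autInducedBy.1 hτ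
    set U : ↥(normalizerIn S E) := ⟨u, hu, mem_normalizer_of_aut hue⟩
    rw [show τ = ((conjF F hES U : F.autGroup E) : MulAut E) from
      MulEquiv.ext fun x => Subtype.ext (hue x)]
    set δ := α * conjF F hES U * α⁻¹ * (conjF F hES (U ^ (L * L)))⁻¹ with hδ
    have hδ1 : ρ δ = 1 := by
      rw [hδ, map_mul, map_mul, map_mul, map_inv, map_inv,
        diag_conj hA hAexp hc1 hfc (hcent U) hμ' hhc hhd, ← map_zpow ρ, ← map_zpow (conjF F hES),
        mul_inv_cancel]
    have h1 := inn_le_autInducedBy (S := S) hES (hker δ hδ1)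
    have h2 : ((conjF F hES (U ^ (L * L)) : F.autGroup E) : MulAut E) ∈ autInducedBy S E :=
      mem_autInducedBy.2 ⟨_, (U ^ (L * L)).2.1, fun _ => rfl⟩
    have h3 := mul_mem h1 h2
    simp only [hδ, Subgroup.coe_mul, InvMemClass.coe_inv, inv_mul_cancel_right] at h3
    exact h3
  refine ⟨?_, g, hg, c, f c, α, hgE, hc1, hfc, ht1, hcent _, hhc, hhd,
    ext_of_normalizes hS hF hE.2.1 rfl α.2 hnorm⟩
  have := finite_of_le (normalizerIn_le_S (S := S) E)
  set M := normalizerIn S E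
  have hEM : E ≤ M := le_normalizerIn hES
  haveI : (E.subgroupOf M).Normal := normal_subgroupOf_of_le_normalizer fun u hu => hu.2
  have h1 := CfsgLib.PGroupBasic.card_sup_zpowers_le (p := p) (E.subgroupOf M) ⟨g, hg⟩
    (mem_subgroupOf.2 (pow_mem_of_plane hE.1 hA hAexp ρ hker hg hc1 hcent))
  have htop : zpowers (⟨g, hg⟩ : M) ⊔ E.subgroupOf M = ⊤ := by
    refine eq_top_iff.2 fun u _ => ?_
    have hle : E ⊔ zpowers g ≤
        (zpowers (⟨g, hg⟩ : M) ⊔ E.subgroupOf M).map M.subtype := sup_le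
      (fun v hv => ⟨⟨v, hEM hv⟩, mem_sup_right (mem_subgroupOf.2 hv), rfl⟩)
      (zpowers_le.2 ⟨⟨g, hg⟩, mem_sup_left (mem_zpowers _), rfl⟩)
    obtain ⟨u', hu', e⟩ := hle (normalizerIn_le_sup hE.1 hA hAexp ρ hker hg hc1 hcent hgE u.2)
    exact Subtype.ext e ▸ hu'
  rw [htop, card_top, Nat.card_congr (subgroupOfEquivOfLe hEM).toEquiv] at h1
  refine le_antisymm h1 ?_
  obtain ⟨i, hi⟩ := IsPGroup.iff_card.1 (isPGroup_of_le hS (normalizerIn_le_S (S := S) E))
  obtain ⟨j, hj⟩ := IsPGroup.iff_card.1 (isPGroup_of_le hS hES)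
  have h2 : Nat.card E < Nat.card M := lt_of_not_ge fun hge =>
    hgE ((eq_of_le_of_card_le (normalizerIn_le_S E) hEM hge).ge hg)
  rw [hj, hi, Nat.pow_lt_pow_iff_right hp.out.one_lt] at h2
  rw [hj, hi, ← pow_succ']
  exact Nat.pow_le_pow_right hp.out.pos h2

/-- No pearl under the standing hypotheses. -/
theorem no_pearl (hS : IsPGroup p S) (hF : F.IsSaturated p) (hp2 : p ≠ 2) (hp7 : p ≠ 7)
    (hcardS : Nat.card S = p ^ 5) (hhyp : F.hyperfocalSubgroup p = S)
    (hna : ¬ ∃ B : Subgroup S, (∀ a ∈ B, ∀ b ∈ B, a * b = b * a) ∧ B.index = p)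
    (hno4 : ∀ R : Subgroup Ω, F.IsEssential p R → Nat.card R ≠ p ^ 4)
    {E₀ : Subgroup Ω} (hE₀ : F.IsEssential p E₀)
    (hpearl : Nat.card E₀ = p ^ 2 ∨ (Nat.card E₀ = p ^ 3 ∧ ¬ ∀ a b : E₀, a * b = b * a)) :
    False := by
  classical
  obtain ⟨E, hE, hcase⟩ : ∃ E, F.IsEssential p E ∧
      ((Nat.card E = p ^ 3 ∧ ¬ ∀ a b : E, a * b = b * a) ∨ (Nat.card E = p ^ 2 ∧
        ∀ R : Subgroup Ω, F.IsEssential p R → Nat.card R = p ^ 3 → ∀ a b : R, a * b = b * a)) := by
    by_cases h : ∃ R, F.IsEssential p R ∧ Nat.card R = p ^ 3 ∧ ¬ ∀ a b : R, a * b = b * a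
    · obtain ⟨R, hR, h1⟩ := h
      exact ⟨R, hR, Or.inl h1⟩
    push Not at h
    rcases hpearl with h2 | ⟨h3, hne⟩
    · exact ⟨E₀, hE₀, Or.inr ⟨h2, h⟩⟩
    · exact absurd (h E₀ hE₀ h3) hne
  have hES := hE.1.1
  have := finite_of_le hES
  have : Finite (MulAut E) := finite_mulAut
  let ι : E →* S := Subgroup.inclusion hES
  have hι : Function.Injective ι := Subgroup.inclusion_injective hES
  set E' : Subgroup S := E.subgroupOf S with hE'
  have hC : ∀ y : S, (∀ e ∈ E', e * y = y * e) → y ∈ E' := fun y hy =>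
    mem_subgroupOf.2 (centralizer_mem_of_centric hE.1 y.2 fun e he =>
      congrArg Subtype.val (hy ⟨e, hES he⟩ (mem_subgroupOf.2 he)))
  have hE'c : Nat.card E' = Nat.card E := Nat.card_congr (subgroupOfEquivOfLe hES).toEquiv
  obtain ⟨x, hx⟩ : ∃ x : S, Slim p x := by
    rcases hcase with ⟨h3, hne⟩ | ⟨h2, -⟩
    · exact exists_slim_extraspecial hS hC (hE'c.trans h3) fun hall => hne fun a b => Subtype.ext
        (congrArg Subtype.val (hall (ι a) a.2 (ι b) b.2) :)
    · refine exists_slim_abelian hS hC (fun a ha b hb => Subtype.ext ?_) (hE'c.trans h2)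
      exact (congrArg Subtype.val ((essential_of_card_sq p hS hF hE h2).1.1.is_comm.comm
        ⟨(a : Ω), ha⟩ ⟨(b : Ω), hb⟩) :)
  obtain ⟨hxM, h1M, hMc, hM3⟩ := sM_facts hx hcardS
  have hlt : p ^ 2 < Nat.card S := by
    rw [hcardS]; exact Nat.pow_lt_pow_right hp.out.one_lt (by norm_num)
  have hxp : x ^ p ∈ sM S := center_le_centralizer _ (hx.pow_prime_central hlt)
  have hgam1 : commutator S = gam S 1 := (top_lowerCentralSeries_one).symm
  obtain ⟨s, hs, hs1⟩ := exists_s hx hcardS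
  have hsec : CfsgLib.MaxClassEss.Sec p (sM S) (gam S 1) :=
    CfsgLib.MaxClassEss.sec_of_card hS h1M
      (by rw [hMc, card_gam hx hcardS le_rfl (by norm_num)]; ring)
  have h4ne : p ≠ 4 := fun h => by have := hp.out; rw [h] at this; norm_num at this
  have h6ne : p ≠ 6 := fun h => by have := hp.out; rw [h] at this; norm_num at this
  have h2le := hp.out.two_le
  by_cases hp3 : p = 3
  · subst hp3
    have hfix : ∀ χ ∈ F.autGroup S, s⁻¹ * χ s ∈ commutator S := by
      intro χ _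
      obtain ⟨v, hv⟩ := exists_coord hx hcardS hxM (χ x)
      obtain ⟨u, a, ha, hχs⟩ := decompM hx hcardS hs hs1 (aut_mem_sM χ hs)
      obtain ⟨huv, -⟩ := slim_weights hx hcardS hna (χ := χ) hxM hs hs1 hv
        (u := u) (by rw [hχs, inv_mul_cancel_left]; exact ha)
      have hv0 : ¬ ((3 : ℕ) : ℤ) ∣ v := by
        rintro ⟨k, rfl⟩
        refine hxM ?_
        have h1 : χ x ∈ sM S := by
          rw [← mul_inv_cancel_left (x ^ (((3 : ℕ) : ℤ) * k)) (χ x)]
          refine mul_mem ?_ hv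
          rw [zpow_mul, zpow_natCast]
          exact zpow_mem hxp k
        simpa using aut_mem_sM χ⁻¹ h1
      have hu1 : ((3 : ℕ) : ℤ) ∣ u - 1 := by
        rw [← ZMod.intCast_zmod_eq_zero_iff_dvd] at huv hv0 ⊢
        push_cast at huv hv0 ⊢
        exact zmod_three' _ _ huv hv0
      obtain ⟨j, hj⟩ := hu1
      rw [hgam1, hχs, ← mul_assoc]
      refine mul_mem ?_ ha
      rw [← zpow_neg_one, ← zpow_add, show -1 + u = ((3 : ℕ) : ℤ) * j by omega]
      exact hsec.zpow_mul_mem hs j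
    obtain ⟨Q, ψ, hψ⟩ := exists_wreath_of_fixed hS hF hhyp (hgam1.symm ▸ hs1) hfix
    obtain ⟨a, ha⟩ := exists_two hx hcardS le_rfl
    exact false_of_two_generated (G := S) hψ ha.generators
  have hp5 : 5 ≤ p := by omega
  obtain ⟨L, μ, hμ, hroot⟩ := exists_root p
  have hL : ∀ m, 0 < m → (m = 5 ∨ m = 6) → ¬ (p : ℤ) ∣ L ^ m - 1 := by
    intro m hm hm' hd
    refine hroot m (fun hdvd => ?_) hd
    have hle := Nat.le_of_dvd hm hdvd
    obtain ⟨q, hq⟩ := hdvd
    rcases hm' with rfl | rfl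
    · have : p = 5 ∨ p = 6 := by omega
      rcases this with rfl | rfl
      · omega
      · exact h6ne rfl
    · have : p = 5 ∨ p = 6 ∨ p = 7 := by omega
      rcases this with rfl | rfl | rfl
      · omega
      · exact h6ne rfl
      · exact hp7 rfl
  have hz3 : ∀ z ∈ gam S 3, ∀ a : ℤ, ∀ b : ℤ, z ≠ 1 → z ^ a = z ^ b → (p : ℤ) ∣ a - b := by
    intro z hz a b hz1 hab
    refine dvd_sub_of_zpow_eq ?_ hz1 hab
    have h := pow_card_eq_one' (x := (⟨z, hz⟩ : gam S 3))
    rw [card_gam hx hcardS (by norm_num) (by norm_num), show p ^ (4 - 3) = p from pow_one p] at h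
    exact (SubmonoidClass.coe_pow _ _).symm.trans (congrArg Subtype.val h)
  obtain ⟨z, hz, hz1⟩ := (bot_or_exists_ne_one (gam S 3)).resolve_left
    (hx.gam_ne_bot hcardS (by norm_num))
  have hzE' : z ∈ E' := hC z fun e _ => gam_three_central hx hcardS hz e
  set zE : E := ⟨(z : Ω), hzE'⟩
  have hEnotM : ¬ E' ≤ sM S → ∃ w : E, ι w ∉ sM S := fun h => by
    obtain ⟨w, hw, hwM⟩ := SetLike.not_le_iff_exists.1 h
    exact ⟨⟨w, hw⟩, hwM⟩
  have hle2 : E' ≤ sM S → ∀ y ∈ gam S 2, y ∈ E' ∧ ∀ e ∈ E', e * y = y * e := fun h y hy =>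
    have h' : ∀ e ∈ E', e * y = y * e := fun e he => (mem_centralizer_iff.1 (h he) y hy).symm
    ⟨hC y h', h'⟩
  -- the final contradiction from an automorphism of `S`
  have hfinal : ∀ χ : MulAut S, ∀ w : E, ι w ∉ sM S → ∀ v a : ℤ,
      ((ι w) ^ v)⁻¹ * χ (ι w) ∈ sM S → χ z = z ^ a → (p : ℤ) ∣ v ^ 5 - a := by
    intro χ w hw v a hv ha
    obtain ⟨u, a', ha', hχs⟩ := decompM hx hcardS hs hs1 (aut_mem_sM χ hs)
    obtain ⟨-, hzv⟩ := slim_weights hx hcardS hna (χ := χ) hw hs hs1 hv (u := u)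
      (by rw [hχs, inv_mul_cancel_left]; exact ha')
    exact hz3 z hz _ _ hz1 ((hzv z hz).symm.trans ha)
  have hμL : ∀ m : ℕ, (p : ℤ) ∣ μ ^ m - 1 → (p : ℤ) ∣ L ^ m - 1 := fun m h => by
    rw [← ZMod.intCast_zmod_eq_zero_iff_dvd] at h hμ ⊢
    push_cast at h hμ ⊢
    rw [sub_eq_zero] at h hμ ⊢
    calc (L : ZMod p) ^ m = (L : ZMod p) ^ m * (μ : ZMod p) ^ m := by rw [h, mul_one]
      _ = 1 := by rw [← mul_pow, hμ, one_pow]
  rcases hcase with ⟨h3, hne⟩ | ⟨h2, hall3⟩
  · -- extraspecial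
    obtain ⟨A, _, _, q, ρ, hA, hAexp, hqs, hqk, hρ, hinn⟩ := exists_cube_plane (F := F) (P := E) ⊤
      (fun _ _ _ _ => trivial) (by rw [card_top, h3])
      (fun h => hne fun a b => (congrArg Subtype.val (h ⟨a, trivial⟩ ⟨b, trivial⟩) :))
    have hK : ∀ α, ρ α = 1 → ∃ n : ℕ, (α : MulAut E) ^ p ^ n = 1 := fun α hα => by
      obtain ⟨d, hd⟩ := hinn α hα
      obtain ⟨n, hn⟩ := isPGroup_of_le hS hES (d : E)
      refine ⟨n, ?_⟩
      have e : (α : MulAut E) = MulAut.conj (d : E) :=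
        MulEquiv.ext fun y => hd ⟨y, trivial⟩
      rw [e, ← map_pow, hn, map_one]
    obtain ⟨hN1, g, hg, c, d, α, hgE, hc1, hdc, ht1, hts, hαc, hαd, β, hβ, hβe⟩ :=
      torus_ext hS hF hE hA hAexp ρ hK hμ
    have hNS := normalizerIn_le_S (S := S) E
    obtain ⟨χ, -, hχ⟩ := ext_top hS hF hcardS hNS (by rw [hN1, h3]; ring)
      (fun h => hno4 _ h (by rw [hN1, h3]; ring)) hβ
    have hχι : ∀ w : E, χ (ι w) = ι ((α : MulAut E) w) := fun w => Subtype.ext
      ((hχ ⟨w, le_normalizerIn hES w.2⟩ (hES w.2)).trans (hβe w (le_normalizerIn hES w.2)))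
    obtain ⟨-, hZ, -, -⟩ := cube_frattini h3 hne
    have hzc : zE ∈ center E := mem_center_iff.2 fun w => Subtype.ext
      (congrArg Subtype.val (gam_three_central hx hcardS hz (ι w)) :)
    have hzE1 : zE ≠ 1 := fun h => hz1 (Subtype.ext (congrArg Subtype.val h :))
    have hgen : ∀ w ∈ center E, ι w ∈ sM S := fun w hw => by
      obtain ⟨i, hi⟩ := mem_zpowers_iff.1 (mem_zpowers_of_prime_card hZ
        (g := (⟨zE, hzc⟩ : center E)) (g' := ⟨w, hw⟩) fun h => hzE1 (congrArg Subtype.val h))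
      have hi' : zE ^ i = w := congrArg Subtype.val hi
      rw [← hi', map_zpow]
      exact zpow_mem (center_le_centralizer _ (mem_center_iff.2 (gam_three_central hx hcardS hz))) i
    have hEM : ¬ E' ≤ sM S := by
      intro h
      have hle : gam S 2 ≤ (center E).map ι := fun y hy => by
        obtain ⟨h1, h2⟩ := hle2 h y hy
        exact ⟨⟨y, h1⟩, mem_center_iff.2 fun w => Subtype.ext
          (congrArg Subtype.val (h2 (ι w) w.2) :), Subtype.ext rfl⟩
      have := Subgroup.card_le_of_le hle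
      rw [card_map_of_injective hι, hZ, card_gam hx hcardS (by norm_num) (by norm_num)] at this
      exact absurd this (not_le.2 (lt_self_pow₀ hp.out.one_lt (by norm_num)))
    obtain ⟨xc, hxc⟩ := hqs c
    obtain ⟨xd, hxd⟩ := hqs d
    have hqZ : ∀ w : (⊤ : Subgroup E), q w = 1 → (w : E) ∈ center E := fun w hw =>
      mem_center_iff.2 fun v => congrArg Subtype.val (mem_center_iff.1 ((hqk w).1 hw) ⟨v, trivial⟩)
    have hmem : ∀ (w : (⊤ : Subgroup E)) (e : ℤ), ρ α (q w) = q w ^ e →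
        ((w : E) ^ e)⁻¹ * (α : MulAut E) w ∈ center E := by
      intro w e he
      refine hqZ ((w ^ e)⁻¹ * ⟨(α : MulAut E) w, trivial⟩) ?_
      rw [map_mul, map_inv, map_zpow, ← he, hρ, inv_mul_cancel]
    have hEc := hmem xc L (by rw [hxc, hαc])
    have hEd := hmem xd μ (by rw [hxd, hαd])
    have hαz : (α : MulAut E) zE = zE ^ (L * μ) := by
      refine cube_center_eigen h3 (x := (xc : E)) (y := (xd : E)) ?_ _ hEc hEd hzc
      have hnc := cube_not_commute ⊤ hA hAexp q hqk hqs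
        (fun h => hne fun a b => (congrArg Subtype.val (h ⟨a, trivial⟩ ⟨b, trivial⟩) :))
        (x := xc) (y := xd) (hxc.symm ▸ hc1) (by rw [hxc, hxd]; exact hdc)
      exact fun h => hnc (Subtype.ext h)
    have hχz : χ z = z ^ (L * μ) := by
      have := hχι zE
      rw [hαz, map_zpow] at this
      exact this
    have key : ∀ (w : (⊤ : Subgroup E)) (v : ℤ), ι w ∉ sM S →
        ((w : E) ^ v)⁻¹ * (α : MulAut E) w ∈ center E → (p : ℤ) ∣ v ^ 5 - 1 := by
      intro w v hw hv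
      have h1 := hfinal χ w hw v (L * μ)
        (by rw [hχι, ← map_zpow, ← map_inv, ← map_mul]; exact hgen _ hv) hχz
      have := dvd_add h1 hμ
      rwa [sub_add_sub_cancel] at this
    by_cases hcM : ι (xc : E) ∈ sM S
    · by_cases hdM : ι (xd : E) ∈ sM S
      · refine hEM fun y hy => ?_
        obtain ⟨i, j, hij⟩ := plane_decomp hA hAexp hc1 hdc (q ⟨⟨y, hy⟩, trivial⟩)
        have h1 := hgen _ (hqZ ((xc ^ i * xd ^ j)⁻¹ * ⟨⟨y, hy⟩, trivial⟩)
          (by rw [map_mul, map_inv, map_mul, map_zpow, map_zpow, hxc, hxd, hij, inv_mul_cancel]))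
        have h2 : ι ((xc : E) ^ i * (xd : E) ^ j) ∈ sM S := by
          rw [map_mul, map_zpow, map_zpow]
          exact mul_mem (zpow_mem hcM i) (zpow_mem hdM j)
        have h3 := mul_mem h2 h1
        rw [← map_mul] at h3
        simp only [Subgroup.coe_mul, InvMemClass.coe_inv, SubgroupClass.coe_zpow,
          mul_inv_cancel_left] at h3
        exact h3
      · exact hL 5 (by norm_num) (Or.inl rfl) (hμL 5 (key xd μ hdM hEd))
    · exact hL 5 (by norm_num) (Or.inl rfl) (key xc L hcM hEc)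
  · -- elementary of order `p²`
    obtain ⟨⟨hab, hexp⟩, -⟩ := essential_of_card_sq p hS hF hE h2
    letI : CommGroup E := { (inferInstance : Group E) with mul_comm := hab.is_comm.comm }
    have hAexp : ∀ w : E, w ^ p = 1 := fun w => Subtype.ext (hexp w w.2)
    obtain ⟨hN1, g, hg, c, d, α, hgE, hc1, hdc, ht1, hts, hαc, hαd, β, hβ, hβe⟩ :=
      torus_ext hS hF hE h2 hAexp (F.autGroup E).subtype
        (fun γ hγ => ⟨0, by rw [pow_zero, pow_one]; exact hγ⟩) hμ
    have hzE1 : zE ≠ 1 := fun h => hz1 (Subtype.ext (congrArg Subtype.val h :))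
    have hzc : zE ∈ zpowers c := by
      refine mem_centre_of_fix h2 hAexp hc1 hts ht1 (Subtype.ext ?_)
      show g * (z : Ω) * g⁻¹ = z
      rw [show g * (z : Ω) = z * g from
        congrArg Subtype.val (gam_three_central hx hcardS hz ⟨g, hg.1⟩), mul_inv_cancel_right]
    have hcz : c ∈ zpowers zE :=
      TransvectionCentre.mem_zpowers_swap (orderOf_eq_prime (hAexp c) hc1) hzc hzE1
    have hdM : ι d ∉ sM S := by
      intro hdM
      have hle : E' ≤ sM S := fun y hy => by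
        obtain ⟨i, j, hij⟩ := plane_decomp h2 hAexp hc1 hdc ⟨y, hy⟩
        obtain ⟨k, hk⟩ := mem_zpowers_iff.1 hcz
        have : y = ι (c ^ i * d ^ j) := by rw [hij]; rfl
        rw [this, ← hk, map_mul, map_zpow, map_zpow, map_zpow]
        exact mul_mem (zpow_mem (zpow_mem (center_le_centralizer _
          (mem_center_iff.2 (gam_three_central hx hcardS hz))) k) i) (zpow_mem hdM j)
      have heq : gam S 2 = E' := eq_of_le_of_card_ge (fun y hy => (hle2 hle y hy).1)
        (by rw [hE'c, h2, card_gam hx hcardS (by norm_num) (by norm_num)])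
      have h1E : gam S 1 ≤ E' := fun y hy => hC y fun e he => by
        have := mem_centralizer_iff.1 (h1M hy) e (heq.ge he)
        exact this
      have := Subgroup.card_le_of_le h1E
      rw [hE'c, h2, card_gam hx hcardS le_rfl (by norm_num)] at this
      exact absurd ((Nat.pow_le_pow_iff_right hp.out.one_lt).1 this) (by norm_num)
    -- the tower of normalizers
    set N₁ := normalizerIn S E with hN₁
    have hN₁S : N₁ ≤ S := normalizerIn_le_S E
    have hN₁c : Nat.card N₁ = p ^ 3 := by rw [hN1, h2]; ring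
    have hN₁ne : ¬ ∀ a b : N₁, a * b = b * a := fun h => hgE (centralizer_mem_of_centric hE.1 hg.1
      fun w hw => congrArg Subtype.val (h ⟨w, le_normalizerIn hES hw⟩ ⟨g, hg⟩))
    have hN₁lt : N₁ < S := lt_of_le_of_ne hN₁S fun h => by
      rw [h, hcardS] at hN₁c
      exact absurd (Nat.pow_right_injective hp.out.two_le hN₁c) (by norm_num)
    have hnor : ∀ Q : Subgroup Ω, F.IsConj N₁ Q → Nat.card (normalizerIn S Q) ≤ p ^ 4 := by
      intro Q hQ
      have hQS := IsConj.le_right hQ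
      by_contra hlt'
      have hQn : normalizerIn S Q = S := by
        refine eq_of_le_of_card_le le_rfl (normalizerIn_le_S Q) ?_
        have := finite_of_le (normalizerIn_le_S (S := S) Q)
        obtain ⟨i, hi⟩ := IsPGroup.iff_card.1 (isPGroup_of_le hS (normalizerIn_le_S (S := S) Q))
        rw [hi] at hlt' ⊢
        rw [hcardS]
        refine Nat.pow_le_pow_right hp.out.pos ?_
        by_contra h
        exact hlt' (Nat.pow_le_pow_right hp.out.pos (by omega))
      haveI : (Q.subgroupOf S).Normal :=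
        normal_subgroupOf_of_le_normalizer (hQn.ge.trans inf_le_right)
      have hQi : (Q.subgroupOf S).index = p ^ 2 := by
        have h := (Q.subgroupOf S).card_mul_index
        rw [Nat.card_congr (subgroupOfEquivOfLe hQS).toEquiv, IsConj.card_eq hQ, hN₁c, hcardS,
          show p ^ 5 = p ^ 3 * p ^ 2 by rw [← pow_add]] at h
        exact Nat.eq_of_mul_eq_mul_left (pow_pos hp.out.pos 3) h
      have hle : commutator S ≤ Q.subgroupOf S :=
        Subgroup.Normal.quotient_commutative_iff_commutator_le.1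
          (IsPGroup.isMulCommutative_of_card_eq_prime_sq (p := p)
            ((Subgroup.index_eq_card _).symm.trans hQi))
      have heq : gam S 1 = Q.subgroupOf S := eq_of_le_of_card_ge (hgam1 ▸ hle) (by
        rw [Nat.card_congr (subgroupOfEquivOfLe hQS).toEquiv, IsConj.card_eq hQ, hN₁c,
          card_gam hx hcardS le_rfl (by norm_num)])
      obtain ⟨φ, hφ, rfl⟩ := hQ
      refine hN₁ne fun a b => F.injective_of_mem hφ ?_
      have hm : ∀ a : N₁, (⟨φ a, apply_mem_S hφ a⟩ : S) ∈ gam S 1 := fun a =>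
        heq.ge (mem_subgroupOf.2 ⟨a, rfl⟩)
      rw [map_mul, map_mul]
      exact congrArg Subtype.val (gam_one_comm hx hcardS (hm a) (hm b)).eq
    set N₂ := normalizerIn S N₁ with hN₂
    have hN₂S : N₂ ≤ S := normalizerIn_le_S N₁
    have hN₂c : Nat.card N₂ = p ^ 4 := by
      refine le_antisymm (hnor N₁ (isConj_refl hN₁S)) ?_
      have := finite_of_le hN₂S
      obtain ⟨i, hi⟩ := IsPGroup.iff_card.1 (isPGroup_of_le hS hN₂S)
      have h1 := lt_normalizerIn p hS le_rfl hN₁lt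
      have := finite_of_le hN₂S
      have h2 : Nat.card N₁ < Nat.card N₂ := lt_of_not_ge fun hge =>
        h1.ne (eq_of_le_of_card_le hN₂S h1.le hge)
      rw [hN₁c, hi, Nat.pow_lt_pow_iff_right hp.out.one_lt] at h2
      rw [hi]
      exact Nat.pow_le_pow_right hp.out.pos h2
    have hN₁fn : F.IsFullyNormalized N₁ := ⟨hN₁S, fun Q hQ => (hnor Q hQ).trans hN₂c.ge⟩
    have hN₁ess : ¬ F.IsEssential p N₁ := fun h => hN₁ne (hall3 N₁ h hN₁c)
    obtain ⟨β₂, hβ₂, hβ₂e⟩ := ext_of_not_essential hS hF hN₁lt hN₁fn hN₁ess hN₂.symm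
      (by rw [hN₂c, hN₁c]; ring) hβ
    obtain ⟨χ, -, hχ⟩ := ext_top hS hF hcardS hN₂S hN₂c (fun h => hno4 _ h hN₂c) hβ₂
    have hχι : ∀ w : E, χ (ι w) = ι ((α : MulAut E) w) := fun w => by
      have hwN : (w : Ω) ∈ N₁ := le_normalizerIn hES w.2
      have hwN₂ : (w : Ω) ∈ N₂ := le_normalizerIn hN₁S hwN
      exact Subtype.ext (((hχ ⟨w, hwN₂⟩ (hES w.2)).trans (hβ₂e ⟨w, hwN⟩ hwN₂)).trans (hβe w hwN))
    have hαz : (α : MulAut E) zE = zE ^ L := by
      obtain ⟨k, hk⟩ := mem_zpowers_iff.1 hzc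
      change (α : MulAut E) c = c ^ L at hαc
      rw [← hk, map_zpow, hαc, ← zpow_mul, ← zpow_mul, mul_comm]
    have h1 := hfinal χ d hdM μ L (by
      rw [hχι, show (α : MulAut E) d = d ^ μ from hαd, map_zpow, inv_mul_cancel]
      exact one_mem _) (by
      have := hχι zE
      rw [hαz, map_zpow] at this
      exact this)
    refine hL 6 (by norm_num) (Or.inr rfl) ?_
    rw [← ZMod.intCast_zmod_eq_zero_iff_dvd] at h1 hμ ⊢
    push_cast at h1 hμ ⊢
    rw [sub_eq_zero] at h1 hμ ⊢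
    calc (L : ZMod p) ^ 6 = (L : ZMod p) ^ 5 * L := by ring
      _ = ((L : ZMod p) * μ) ^ 5 := by rw [mul_pow, h1]
      _ = 1 := by rw [hμ, one_pow]

end CfsgLib.OrderFive
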