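import Cfsg.Agent.MaxClassEss.Flag
import Cfsg.Agent.Fusion.RankTwoResistant

/-!
Groups of order `p⁵` with a maximal subgroup whose centre has index `p²`: weights of automorphisms.
-/

set_option autoImplicit false
set_option linter.unusedSectionVars false
set_option linter.style.haveILetI false

open Subgroup
open scoped commutatorElement

namespace CfsgLib.OrderFive

universe u

variable {G : Type u} [Group G]

/-- A commutator of perturbed powers. -/
theorem comm_zpow_mul {x y z u v : G} (hz : ∀ q : G, q * z = z * q) (h : ⁅x, y⁆ = z)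
    (huy : Commute u y) (huv : Commute u v) (hvx : Commute v x) (a b : ℤ) :
    ⁅x ^ a * u, y ^ b * v⁆ = z ^ (a * b) := by
  rw [← CfsgLib.MaxClassEss.comm_zpow_zpow hz h a b]
  have h1 : Commute u (y ^ b * v) := (huy.zpow_right b).mul_right huv
  have h2 : Commute v (x ^ a) := hvx.zpow_right a
  simp only [commutatorElement_def]
  calc x ^ a * u * (y ^ b * v) * (x ^ a * u)⁻¹ * (y ^ b * v)⁻¹
      = x ^ a * (u * (y ^ b * v)) * u⁻¹ * (x ^ a)⁻¹ * v⁻¹ * (y ^ b)⁻¹ := by group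
    _ = x ^ a * (y ^ b * v * u) * u⁻¹ * (x ^ a)⁻¹ * v⁻¹ * (y ^ b)⁻¹ := by rw [h1.eq]
    _ = x ^ a * y ^ b * (v * (x ^ a)⁻¹) * v⁻¹ * (y ^ b)⁻¹ := by group
    _ = x ^ a * y ^ b * ((x ^ a)⁻¹ * v) * v⁻¹ * (y ^ b)⁻¹ := by rw [h2.inv_right.eq]
    _ = x ^ a * y ^ b * (x ^ a)⁻¹ * (y ^ b)⁻¹ := by group

/-- The same congruence modulo a normal subgroup. -/
theorem comm_mod (K : Subgroup G) [K.Normal] {x y u v : G} (hz : ∀ g : G, ⁅g, ⁅x, y⁆⁆ ∈ K)
    (huy : ⁅u, y⁆ ∈ K) (huv : ⁅u, v⁆ ∈ K) (hvx : ⁅v, x⁆ ∈ K) (a b : ℤ) :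
    (⁅x, y⁆ ^ (a * b))⁻¹ * ⁅x ^ a * u, y ^ b * v⁆ ∈ K := by
  set π := QuotientGroup.mk' K with hπ
  have hone : ∀ {g h : G}, ⁅g, h⁆ ∈ K → Commute (π g) (π h) := fun {g h} hgh =>
    commutatorElement_eq_one_iff_commute.1 (by
      rw [← map_commutatorElement]; exact (QuotientGroup.eq_one_iff _).2 hgh)
  have hc : ∀ q, q * π ⁅x, y⁆ = π ⁅x, y⁆ * q := fun q => by
    obtain ⟨g, rfl⟩ := QuotientGroup.mk'_surjective K q
    exact (hone (hz g)).eq
  have h := comm_zpow_mul hc (map_commutatorElement π x y).symm (hone huy) (hone huv) (hone hvx) a b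
  rw [← map_zpow π x, ← map_zpow π y, ← map_mul, ← map_mul, ← map_commutatorElement,
    ← map_zpow π] at h
  exact QuotientGroup.eq.1 h.symm

/-- The image of a commutator under an automorphism. -/
theorem push_comm (K : Subgroup G) [K.Normal] {x y u v : G} (χ : MulAut G) {a b : ℤ}
    (hx : χ x = x ^ a * u) (hy : χ y = y ^ b * v) (hz : ∀ g : G, ⁅g, ⁅x, y⁆⁆ ∈ K)
    (huy : ⁅u, y⁆ ∈ K) (huv : ⁅u, v⁆ ∈ K) (hvx : ⁅v, x⁆ ∈ K) :
    (⁅x, y⁆ ^ (a * b))⁻¹ * χ ⁅x, y⁆ ∈ K := by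
  rw [map_commutatorElement, hx, hy]
  exact comm_mod K hz huy huv hvx a b

variable [Finite G] {p : ℕ} [hp : Fact p.Prime]

/-- Two exponents describing the same element modulo `K` are congruent. -/
theorem dvd_sub {K : Subgroup G} {z w : G} (hzp : z ^ p ∈ K) (hz : z ∉ K) {i j : ℤ}
    (hi : (z ^ i)⁻¹ * w ∈ K) (hj : (z ^ j)⁻¹ * w ∈ K) : (p : ℤ) ∣ i - j := by
  refine CfsgLib.Fusion.dvd_of_zpow_mem hzp hz ?_
  have h := mul_mem hj (inv_mem hi)
  rw [mul_inv_rev, inv_inv] at h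
  simp only [mul_assoc, mul_inv_cancel_left] at h
  rwa [show i - j = -j + i by ring, zpow_add, zpow_neg]

/-- A normal section of order `p` is central. -/
theorem sec_central (hG : IsPGroup p G) {H K : Subgroup G} [H.Normal] [K.Normal] (hKH : K ≤ H)
    (h : Nat.card H = p * Nat.card K) {x : G} (hx : x ∈ H) (g : G) : ⁅g, x⁆ ∈ K := by
  set π := QuotientGroup.mk' K
  haveI : (H.map π).Normal :=
    (inferInstance : H.Normal).map π (QuotientGroup.mk'_surjective K)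
  have hHp : Nat.card (H.map π) = p := by
    have h1 : Nat.card (H.map π) = K.relIndex H := by
      rw [← relIndex_bot_left (H.map π), show (⊥ : Subgroup (G ⧸ K)) = K.map π from
        ((Subgroup.map_eq_bot_iff _).2 (by rw [QuotientGroup.ker_mk'])).symm,
        relIndex_map_map, QuotientGroup.ker_mk', sup_idem, sup_eq_left.2 hKH]
    have h2 := relIndex_mul_relIndex (⊥ : Subgroup G) K H bot_le hKH
    rw [relIndex_bot_left, relIndex_bot_left, h, mul_comm p] at h2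
    rw [h1]
    exact Nat.eq_of_mul_eq_mul_left Nat.card_pos h2
  have hne : H.map π ≠ ⊥ := fun h0 => by
    rw [h0, card_bot] at hHp
    exact hp.out.one_lt.ne hHp
  haveI := (hG.to_quotient K).isNilpotent
  have hle : H.map π ≤ center (G ⧸ K) := by
    have h3 := CfsgLib.PGroupBasic.inf_center_ne_bot (H.map π) hne
    rcases (Nat.dvd_prime hp.out).1 (hHp ▸ card_dvd_of_le
      (inf_le_left : H.map π ⊓ center (G ⧸ K) ≤ H.map π)) with h4 | h4
    · exact absurd (eq_bot_of_card_eq _ h4) h3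
    · exact (eq_of_le_of_card_ge (inf_le_left : H.map π ⊓ center (G ⧸ K) ≤ H.map π)
        (by rw [h4, hHp])).ge.trans inf_le_right
  refine (QuotientGroup.eq_one_iff _).1 ?_
  show π ⁅g, x⁆ = 1
  rw [map_commutatorElement]
  exact commutatorElement_eq_one_iff_mul_comm.2
    (mem_center_iff.1 (hle (mem_map_of_mem π hx)) (π g))

/-- A subgroup strictly between two of orders `p^a` and `p^(a+2)`. -/
theorem card_between (hG : IsPGroup p G) {H K L : Subgroup G} (hKH : K < H) (hHL : H < L) {a : ℕ}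
    (hK : Nat.card K = p ^ a) (hL : Nat.card L = p ^ (a + 2)) : Nat.card H = p ^ (a + 1) := by
  obtain ⟨k, hk⟩ := IsPGroup.iff_card.1 (hG.to_subgroup H)
  have h1 : Nat.card K < Nat.card H :=
    lt_of_le_of_ne (card_le_of_le hKH.le) fun e => hKH.ne (eq_of_le_of_card_ge hKH.le e.ge)
  have h2 : Nat.card H < Nat.card L :=
    lt_of_le_of_ne (card_le_of_le hHL.le) fun e => hHL.ne (eq_of_le_of_card_ge hHL.le e.ge)
  rw [hK, hk, Nat.pow_lt_pow_iff_right hp.out.one_lt] at h1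
  rw [hL, hk, Nat.pow_lt_pow_iff_right hp.out.one_lt] at h2
  rw [hk, show k = a + 1 by omega]

/-- A subgroup containing a subgroup of index `p` and an element outside it. -/
theorem exists_decomp {H K : Subgroup G} (hKH : K ≤ H) (h : Nat.card H = p * Nat.card K)
    (hG : IsPGroup p G) {x : G} (hx : x ∈ H) (hxK : x ∉ K) {g : G} (hg : g ∈ H) :
    ∃ i : ℤ, ∃ k ∈ K, g = x ^ i * k := by
  have s := CfsgLib.MaxClassEss.sec_of_card hG hKH h
  obtain ⟨i, hi⟩ := s.exists_zpow hx hxK hg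
  exact ⟨i, _, hi, (mul_inv_cancel_left _ _).symm⟩

section Config

/-- The centre of `N`, inside `G`. -/
def cW (N : Subgroup G) : Subgroup G := N ⊓ centralizer (N : Set G)

/-- The span of `[N, G]` over the centre of `N`. -/
def cA (N : Subgroup G) : Subgroup G := cW N ⊔ ⁅N, (⊤ : Subgroup G)⁆

/-- The derived subgroup of `N`. -/
def cR (N : Subgroup G) : Subgroup G := ⁅N, N⁆

/-- A maximal subgroup whose centre has index `p²`, moved modulo its centre. -/
structure Cfg (p : ℕ) (N : Subgroup G) : Prop where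
  pG : IsPGroup p G
  cardG : Nat.card G = p ^ 5
  cardN : Nat.card N = p ^ 4
  cardW : Nat.card (cW N) = p ^ 2
  moves : ∃ n ∈ N, ∃ g : G, ⁅n, g⁆ ∉ cW N

variable {N : Subgroup G}

namespace Cfg

variable (hc : Cfg p N)
include hc

theorem normN : N.Normal := by
  refine normal_of_index_eq_minFac_card ?_
  have h := N.card_mul_index
  rw [hc.cardN, hc.cardG, pow_succ p 4] at h
  rw [Nat.eq_of_mul_eq_mul_left (pow_pos hp.out.pos 4) h, hc.cardG,
    Nat.Prime.pow_minFac hp.out (by norm_num)]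

theorem normW : (cW N).Normal := by
  haveI := hc.normN
  exact Subgroup.normal_inf_normal N _

theorem normA : (cA N).Normal := by
  haveI := hc.normN
  haveI := hc.normW
  exact sup_normal _ _

omit hc in
theorem cW_le : cW N ≤ N := inf_le_left

omit hc in
theorem comm_of_mem_W {w n : G} (hw : w ∈ cW N) (hn : n ∈ N) : Commute w n :=
  (mem_centralizer_iff.1 hw.2 n hn).symm

omit hc in
theorem one_comm {w n : G} (hw : w ∈ cW N) (hn : n ∈ N) : ⁅w, n⁆ = 1 :=
  commutatorElement_eq_one_iff_commute.2 (comm_of_mem_W hw hn)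

theorem A_le : cA N ≤ N := by
  haveI := hc.normN
  exact sup_le cW_le (commutator_le_left N ⊤)

theorem W_lt_A : cW N < cA N := by
  refine lt_of_le_of_ne le_sup_left fun h => ?_
  obtain ⟨n, hn, g, hng⟩ := hc.moves
  exact hng (h.ge (mem_sup_right (commutator_mem_commutator hn (mem_top g))))

theorem A_lt_N : cA N < N := by
  refine lt_of_le_of_ne hc.A_le fun h => ?_
  haveI := hc.normN
  haveI := hc.normW
  set π := QuotientGroup.mk' (cW N)
  have hsurj : Function.Surjective π := QuotientGroup.mk'_surjective _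
  haveI := (hc.pG.to_quotient (cW N)).isNilpotent
  have hN : N.map π = ⁅N.map π, (⊤ : Subgroup (G ⧸ cW N))⁆ := by
    have e := congrArg (Subgroup.map π) h
    rw [cA, Subgroup.map_sup, (Subgroup.map_eq_bot_iff (cW N)).2 (by rw [QuotientGroup.ker_mk']), bot_sup_eq,
      map_commutator, map_top_of_surjective π hsurj] at e
    exact e.symm
  obtain ⟨k, hk⟩ := Subgroup.nilpotent_iff_lowerCentralSeries.1
    ((hc.pG.to_quotient (cW N)).isNilpotent : Group.IsNilpotent (G ⧸ cW N))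
  have hall : ∀ j, N.map π ≤ (⊤ : Subgroup (G ⧸ cW N)).lowerCentralSeries j := by
    intro j
    induction j with
    | zero => exact le_top
    | succ j ih => exact hN.le.trans (commutator_mono ih le_rfl)
  have hb : N.map π = ⊥ := le_bot_iff.1 ((hall k).trans hk.le)
  rw [Subgroup.map_eq_bot_iff, QuotientGroup.ker_mk'] at hb
  exact hc.W_lt_A.not_ge (hc.A_le.trans hb)

theorem cardA : Nat.card (cA N) = p ^ 3 :=
  card_between hc.pG hc.W_lt_A hc.A_lt_N hc.cardW hc.cardN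

theorem A_comm {a g : G} (ha : a ∈ cA N) : ⁅g, a⁆ ∈ cW N := by
  haveI := hc.normW
  haveI := hc.normA
  exact sec_central hc.pG hc.W_lt_A.le (by rw [hc.cardA, hc.cardW]; ring) ha g

theorem A_comm' {a g : G} (ha : a ∈ cA N) : ⁅a, g⁆ ∈ cW N := by
  rw [← commutatorElement_inv]
  exact inv_mem (hc.A_comm ha)

theorem quot_facts : (∀ n ∈ N, n ^ p ∈ cW N) ∧ cR N ≤ cW N := by
  classical
  set Z := Subgroup.center N
  have hZ : Z.map N.subtype = cW N := by
    ext x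
    constructor
    · rintro ⟨z, hz, rfl⟩
      exact ⟨z.2, mem_centralizer_iff.2 fun n hn =>
        congrArg Subtype.val (mem_center_iff.1 hz ⟨n, hn⟩)⟩
    · rintro ⟨hx, hxc⟩
      exact ⟨⟨x, hx⟩, mem_center_iff.2 fun n => Subtype.ext (mem_centralizer_iff.1 hxc n n.2), rfl⟩
  have hq : Nat.card (N ⧸ Z) = p ^ 2 := by
    have h := Z.card_mul_index
    rw [← card_map_of_injective (K := Z) N.subtype_injective, hZ, hc.cardW, hc.cardN,
      show p ^ 4 = p ^ 2 * p ^ 2 by rw [← pow_add]] at h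
    exact (Subgroup.index_eq_card Z).symm.trans (Nat.eq_of_mul_eq_mul_left (pow_pos hp.out.pos 2) h)
  have hcomm := IsPGroup.commutative_of_card_eq_prime_sq hq
  have hnc : ¬ IsCyclic (N ⧸ Z) := fun h => by
    have hab : ∀ a b : N, a * b = b * a :=
      commutative_of_cyclic_center_quotient (QuotientGroup.mk' Z) (by rw [QuotientGroup.ker_mk'])
    have hle : N ≤ cW N := fun x hx => ⟨hx, mem_centralizer_iff.2 fun n hn =>
      congrArg Subtype.val (hab ⟨n, hn⟩ ⟨x, hx⟩)⟩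
    exact hc.W_lt_A.not_ge (hc.A_le.trans hle)
  constructor
  · intro n hn
    rw [← hZ]
    refine ⟨⟨n, hn⟩ ^ p, (QuotientGroup.eq_one_iff _).1 ?_, by simp⟩
    rw [QuotientGroup.mk_pow]
    obtain ⟨i, hi, hio⟩ := (Nat.dvd_prime_pow hp.out).1
      (hq ▸ orderOf_dvd_natCard ((⟨n, hn⟩ : N) : N ⧸ Z))
    rcases (show i ≤ 1 ∨ i = 2 by omega) with h | rfl
    · exact orderOf_dvd_iff_pow_eq_one.1 (hio ▸ (pow_dvd_pow p h).trans (pow_one p).dvd)
    · exact absurd (isCyclic_of_orderOf_eq_card _ (hio.trans hq.symm)) hnc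
  · rw [cR, commutator_le]
    intro a ha b hb
    rw [← hZ]
    refine ⟨⁅(⟨a, ha⟩ : N), ⟨b, hb⟩⁆, (QuotientGroup.eq_one_iff _).1 ?_, ?_⟩
    · rw [← QuotientGroup.mk'_apply, map_commutatorElement]
      exact commutatorElement_eq_one_iff_mul_comm.2 (hcomm _ _)
    · simp [commutatorElement_def]

theorem R_le : cR N ≤ cW N := hc.quot_facts.2

theorem normR : (cR N).Normal := by
  haveI := hc.normN
  exact commutator_normal N N

theorem decompN {e : G} (he : e ∈ N) (heA : e ∉ cA N) {n : G} (hn : n ∈ N) :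
    ∃ i : ℤ, ∃ a ∈ cA N, n = e ^ i * a :=
  exists_decomp hc.A_le (by rw [hc.cardN, hc.cardA]; ring) hc.pG he heA hn

theorem decompA {a : G} (ha : a ∈ cA N) (haW : a ∉ cW N) {b : G} (hb : b ∈ cA N) :
    ∃ i : ℤ, ∃ w ∈ cW N, b = a ^ i * w :=
  exists_decomp hc.W_lt_A.le (by rw [hc.cardA, hc.cardW]; ring) hc.pG ha haW hb

theorem decompG {y : G} (hy : y ∉ N) (g : G) : ∃ i : ℤ, ∃ n ∈ N, g = y ^ i * n := by
  obtain ⟨i, n, hn, h⟩ := exists_decomp (H := (⊤ : Subgroup G)) le_top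
    (by rw [card_top, hc.cardG, hc.cardN]; ring) hc.pG (mem_top y) hy (mem_top g)
  exact ⟨i, n, hn, h⟩

theorem A_abelian {a b : G} (ha : a ∈ cA N) (hb : b ∈ cA N) : Commute a b := by
  obtain ⟨x, hx, hxW⟩ := SetLike.exists_of_lt hc.W_lt_A
  obtain ⟨i, w, hw, rfl⟩ := hc.decompA hx hxW ha
  obtain ⟨j, v, hv, rfl⟩ := hc.decompA hx hxW hb
  have hxN := hc.A_le hx
  have h1 : Commute w (x ^ j * v) :=
    comm_of_mem_W hw (mul_mem (zpow_mem hxN j) (cW_le hv))
  have h2 : Commute (x ^ i) (x ^ j * v) :=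
    ((Commute.refl x).zpow_zpow i j).mul_right (comm_of_mem_W hv (zpow_mem hxN i)).symm
  exact h2.mul_left h1

theorem exists_out : ∃ y : G, y ∉ N := by
  by_contra h
  push Not at h
  have := hc.cardN
  rw [(eq_top_iff' N).2 h, card_top, hc.cardG] at this
  exact absurd (Nat.pow_right_injective hp.out.two_le this) (by norm_num)

/-- `[e, y]` spans `A` over `W`. -/
theorem gen {e y : G} (he : e ∈ N) (heA : e ∉ cA N) (hy : y ∉ N) :
    ⁅e, y⁆ ∈ cA N ∧ ⁅e, y⁆ ∉ cW N := by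
  refine ⟨mem_sup_right (commutator_mem_commutator he (mem_top y)), fun h => ?_⟩
  haveI := hc.normW
  obtain ⟨n, hn, g, hng⟩ := hc.moves
  set π := QuotientGroup.mk' (cW N)
  have hone : ∀ {u v : G}, ⁅u, v⁆ ∈ cW N → Commute (π u) (π v) := fun {u v} huv =>
    commutatorElement_eq_one_iff_commute.1 (by
      rw [← map_commutatorElement]; exact (QuotientGroup.eq_one_iff _).2 huv)
  obtain ⟨i, a, ha, rfl⟩ := hc.decompN he heA hn
  obtain ⟨j, m, hm, rfl⟩ := hc.decompG hy g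
  obtain ⟨k, b, hb, rfl⟩ := hc.decompN he heA hm
  refine hng ((QuotientGroup.eq_one_iff _).1 ?_)
  show π _ = 1
  rw [map_commutatorElement, commutatorElement_eq_one_iff_commute]
  simp only [map_mul, map_zpow]
  have hA' : ∀ q : G, Commute (π a) (π q) := fun q => hone (hc.A_comm' ha)
  have hB' : ∀ q : G, Commute (π b) (π q) := fun q => hone (hc.A_comm' hb)
  exact ((((hone h).zpow_zpow i j).mul_right (((Commute.refl (π e)).zpow_zpow i k).mul_right
    ((hB' e).symm.zpow_left i))).mul_left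
    (((hA' y).zpow_right j).mul_right (((hA' e).zpow_right k).mul_right (hA' b))))

/-- The commutator subgroup of `N` has order `p`, is central, and is generated by `[a, e]`. -/
theorem R_facts {e a : G} (he : e ∈ N) (heA : e ∉ cA N) (ha : a ∈ cA N) (haW : a ∉ cW N) :
    cR N = zpowers ⁅a, e⁆ ∧ ⁅a, e⁆ ≠ 1 ∧ ⁅a, e⁆ ^ p = 1 ∧ Nat.card (cR N) = p ∧
      ∀ r ∈ cR N, ∀ g : G, g * r = r * g := by
  have haN := hc.A_le ha
  set r := ⁅a, e⁆ with hrd
  have hrR : r ∈ cR N := commutator_mem_commutator haN he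
  have hrW := hc.R_le hrR
  have hr1 : r ≠ 1 := by
    intro h
    rw [hrd, commutatorElement_eq_one_iff_commute] at h
    refine haW ⟨haN, mem_centralizer_iff.2 fun n hn => ?_⟩
    obtain ⟨i, b, hb, rfl⟩ := hc.decompN he heA hn
    exact ((h.zpow_right i).mul_right (hc.A_abelian ha hb)).eq.symm
  have hrp : r ^ p = 1 := by
    have h := CfsgLib.MaxClassEss.comm_zpow_zpow
      (x := (⟨a, haN⟩ : N)) (y := ⟨e, he⟩) (z := ⟨r, cW_le hrW⟩)
      (fun q => Subtype.ext (comm_of_mem_W hrW q.2).symm.eq)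
      (Subtype.ext (by simp [hrd, commutatorElement_def])) 1 (p : ℤ)
    have h' := congrArg Subtype.val h
    simp only [commutatorElement_def, Subgroup.coe_mul, InvMemClass.coe_inv,
      SubgroupClass.coe_zpow, zpow_one, zpow_natCast, one_mul, SubgroupClass.coe_pow] at h'
    rw [← h', ← commutatorElement_def, commutatorElement_eq_one_iff_commute]
    exact (comm_of_mem_W (hc.quot_facts.1 e he) haN).symm
  have hcard : Nat.card (zpowers r) = p := by rw [Nat.card_zpowers]; exact orderOf_eq_prime hrp hr1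
  have hR : cR N = zpowers r := by
    refine le_antisymm ?_ (zpowers_le.2 hrR)
    rw [cR, commutator_le]
    intro n hn m hm
    obtain ⟨i, b, hb, rfl⟩ := hc.decompN he heA hn
    obtain ⟨j, d, hd, rfl⟩ := hc.decompN he heA hm
    have key : ∀ {b : G}, b ∈ cA N → ∀ n : ℤ, ⁅b, e ^ n⁆ ∈ zpowers r := by
      intro b hb n
      obtain ⟨k, w, hw, rfl⟩ := hc.decompA ha haW hb
      have hwe := comm_of_mem_W hw (zpow_mem he n)
      have hrc : ∀ q : N, q * (⟨r, cW_le hrW⟩ : N) = ⟨r, cW_le hrW⟩ * q := fun q =>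
        Subtype.ext (comm_of_mem_W hrW q.2).symm.eq
      have h1 := congrArg Subtype.val (CfsgLib.MaxClassEss.comm_zpow_zpow
        (x := (⟨a, haN⟩ : N)) (y := ⟨e, he⟩) hrc
        (Subtype.ext (by simp [hrd, commutatorElement_def])) k n)
      simp only [commutatorElement_def, Subgroup.coe_mul, InvMemClass.coe_inv,
        SubgroupClass.coe_zpow] at h1
      refine ⟨k * n, ?_⟩
      show r ^ (k * n) = _
      rw [← h1, commutatorElement_def]
      calc a ^ k * e ^ n * (a ^ k)⁻¹ * (e ^ n)⁻¹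
          = a ^ k * (e ^ n * w) * w⁻¹ * (a ^ k)⁻¹ * (e ^ n)⁻¹ := by group
        _ = a ^ k * (w * e ^ n) * w⁻¹ * (a ^ k)⁻¹ * (e ^ n)⁻¹ := by rw [hwe.eq]
        _ = a ^ k * w * e ^ n * (a ^ k * w)⁻¹ * (e ^ n)⁻¹ := by group
    -- expand `[e^i b, e^j d]`
    have h1 := key hb j
    have h2 := key hd i
    have hcb : Commute b d := hc.A_abelian hb hd
    have hRN : ∀ {x : G}, x ∈ zpowers r → ∀ {q : G}, q ∈ N → Commute x q := fun {x} hx {q} hq =>
      comm_of_mem_W (zpowers_le.2 hrW hx) hq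
    have e1 : ⁅e ^ i * b, e ^ j * d⁆ = ⁅b, e ^ j⁆ * ⁅d, e ^ i⁆⁻¹ := by
      have c1 := (hRN h1 (zpow_mem he i)).eq
      simp only [commutatorElement_def] at c1 ⊢
      calc e ^ i * b * (e ^ j * d) * (e ^ i * b)⁻¹ * (e ^ j * d)⁻¹
          = e ^ i * (b * e ^ j * b⁻¹ * (e ^ j)⁻¹) * (e ^ j * (b * d) * b⁻¹ * (e ^ i)⁻¹ * d⁻¹ *
              (e ^ j)⁻¹) := by group
        _ = (b * e ^ j * b⁻¹ * (e ^ j)⁻¹) * e ^ i * (e ^ j * (d * b) * b⁻¹ * (e ^ i)⁻¹ * d⁻¹ *
              (e ^ j)⁻¹) := by rw [← c1, hcb.eq]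
        _ = (b * e ^ j * b⁻¹ * (e ^ j)⁻¹) * (e ^ i * e ^ j * d * (e ^ i)⁻¹ * d⁻¹ * (e ^ j)⁻¹) := by
              group
        _ = (b * e ^ j * b⁻¹ * (e ^ j)⁻¹) *
              (e ^ j * (d * e ^ i * d⁻¹ * (e ^ i)⁻¹)⁻¹ * (e ^ j)⁻¹) := by
              rw [((Commute.refl e).zpow_zpow i j).eq]; group
        _ = _ := by
              congr 1
              have c2 := (hRN h2 (zpow_mem he j)).inv_left.eq
              simp only [commutatorElement_def] at c2
              rw [← c2, mul_inv_cancel_right]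
    rw [e1]
    exact mul_mem h1 (inv_mem h2)
  refine ⟨hR, hr1, hrp, hR ▸ hcard, fun x hx g => ?_⟩
  haveI := hc.normR
  have h : ⁅g, x⁆ ∈ (⊥ : Subgroup G) := sec_central hc.pG (H := cR N) (K := ⊥) bot_le
    (by rw [hR, hcard, card_bot, mul_one]) hx g
  exact commutatorElement_eq_one_iff_mul_comm.1 (mem_bot.1 h)

theorem W_sec {e a : G} (he : e ∈ N) (heA : e ∉ cA N) (ha : a ∈ cA N) (haW : a ∉ cW N) {w : G}
    (hw : w ∈ cW N) (g : G) : ⁅g, w⁆ ∈ cR N := by
  haveI := hc.normR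
  haveI := hc.normW
  exact sec_central hc.pG hc.R_le (by rw [hc.cardW, (hc.R_facts he heA ha haW).2.2.2.1, sq]) hw g

/-- A second generator commuting with `[e, y]`. -/
theorem exists_y {e : G} (he : e ∈ N) (heA : e ∉ cA N)
    (hA : ∀ a ∈ cA N, ∀ g : G, ⁅a, g⁆ ∈ cR N) : ∃ y : G, y ∉ N ∧ Commute ⁅e, y⁆ y := by
  obtain ⟨y₀, hy₀⟩ := hc.exists_out
  obtain ⟨haA, haW⟩ := hc.gen he heA hy₀
  set a := ⁅e, y₀⁆ with had
  obtain ⟨hR, -, -, -, hcen⟩ := hc.R_facts he heA haA haW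
  have hr : ⁅a, e⁆ ∈ cR N := hR ▸ mem_zpowers _
  obtain ⟨k, hk⟩ := mem_zpowers_iff.1 (hR ▸ hA a haA y₀ : ⁅a, y₀⁆ ∈ zpowers ⁅a, e⁆)
  refine ⟨y₀ * e ^ (-k), fun h => hy₀ ((mul_mem_cancel_right (zpow_mem he (-k))).1 h), ?_⟩
  have e1 : ⁅e, y₀ * e ^ (-k)⁆ = a := by
    rw [had, commutatorElement_def, commutatorElement_def]
    calc e * (y₀ * e ^ (-k)) * e⁻¹ * (y₀ * e ^ (-k))⁻¹
        = e * y₀ * (e ^ (-k) * e⁻¹) * (e ^ (-k))⁻¹ * y₀⁻¹ := by group
      _ = e * y₀ * (e⁻¹ * e ^ (-k)) * (e ^ (-k))⁻¹ * y₀⁻¹ := by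
          rw [((Commute.refl e).inv_right.zpow_left (-k)).eq]
      _ = e * y₀ * e⁻¹ * y₀⁻¹ := by group
  rw [e1]
  have h2 : ⁅a, e ^ (-k)⁆ = ⁅a, e⁆ ^ (-k) := by
    simpa using CfsgLib.MaxClassEss.comm_zpow_zpow (x := a) (y := e)
      (fun q => hcen _ hr q) rfl 1 (-k)
  rw [← commutatorElement_eq_one_iff_commute]
  calc ⁅a, y₀ * e ^ (-k)⁆ = ⁅a, y₀⁆ * (y₀ * ⁅a, e ^ (-k)⁆ * y₀⁻¹) := by
        simp only [commutatorElement_def]; group
    _ = ⁅a, e⁆ ^ k * ⁅a, e⁆ ^ (-k) := by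
        rw [h2, hk, hcen _ (zpow_mem hr (-k)) y₀, mul_inv_cancel_right]
    _ = 1 := by rw [← zpow_add, add_neg_cancel, zpow_zero]

/-- An abelian subgroup of index `p`. -/
theorem abelian_of (hA : ∀ a ∈ cA N, ∀ g : G, ⁅a, g⁆ ∈ cR N)
    (hW : ∀ w ∈ cW N, ∀ g : G, g * w = w * g) :
    ∃ B : Subgroup G, (∀ a ∈ B, ∀ b ∈ B, a * b = b * a) ∧ B.index = p := by
  obtain ⟨e, he, heA⟩ := SetLike.exists_of_lt hc.A_lt_N
  obtain ⟨y, hy, hay⟩ := hc.exists_y he heA hA
  obtain ⟨haA, haW⟩ := hc.gen he heA hy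
  have hAy : ∀ b ∈ cA N, Commute b y := fun b hb => by
    obtain ⟨i, w, hw, rfl⟩ := hc.decompA haA haW hb
    exact (hay.zpow_left i).mul_left (hW w hw y).symm
  set B := cA N ⊔ zpowers y with hB
  have hab : ∀ a ∈ B, ∀ b ∈ B, a * b = b * a := by
    have h1 : B ≤ centralizer (B : Set G) := by
      refine sup_le (fun b hb => mem_centralizer_iff.2 fun x hx => ?_) (zpowers_le.2 ?_)
      · have h2 : B ≤ centralizer ({b} : Set G) :=
          sup_le (fun c hc' => mem_centralizer_singleton_iff.2 (hc.A_abelian hc' hb).eq)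
            (zpowers_le.2 (mem_centralizer_singleton_iff.2 (hAy b hb).symm.eq))
        exact mem_centralizer_singleton_iff.1 (h2 hx)
      · refine mem_centralizer_iff.2 fun x hx => ?_
        have h2 : B ≤ centralizer ({y} : Set G) :=
          sup_le (fun c hc' => mem_centralizer_singleton_iff.2 (hAy c hc').eq)
            (zpowers_le.2 (mem_centralizer_singleton_iff.2 rfl))
        exact mem_centralizer_singleton_iff.1 (h2 hx)
    exact fun a ha b hb => (mem_centralizer_iff.1 (h1 ha) b hb).symm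
  have hBt : B < ⊤ := by
    refine lt_of_le_of_ne le_top fun h => heA ?_
    exfalso
    refine haW ⟨hc.A_le haA, mem_centralizer_iff.2 fun n _ => ?_⟩
    exact hab n (h ▸ mem_top n) _ (mem_sup_left haA)
  have hAB : cA N < B := lt_of_le_of_ne le_sup_left fun h =>
    hy (hc.A_le (h.ge (mem_sup_right (mem_zpowers y))))
  have hcard := card_between hc.pG hAB hBt hc.cardA (by rw [card_top, hc.cardG])
  refine ⟨B, hab, ?_⟩
  have h := B.card_mul_index
  rw [hcard, hc.cardG, pow_succ p 4] at h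
  exact Nat.eq_of_mul_eq_mul_left (pow_pos hp.out.pos 4) h

/-- The constraints on the weights of an automorphism. -/
theorem weights {χ : MulAut G} {e : G} (he : e ∈ N) (heA : e ∉ cA N) {α β : ℤ}
    (hχe : (e ^ β)⁻¹ * χ e ∈ cA N) (hχa : ∀ a ∈ cA N, (a ^ α)⁻¹ * χ a ∈ cW N)
    (hχw : ∀ w ∈ cW N, w⁻¹ * χ w ∈ cR N) :
    ((∃ a ∈ cA N, ∃ g : G, ⁅a, g⁆ ∉ cR N) → (p : ℤ) ∣ α * α - β) ∧
      ((∃ w ∈ cW N, ∃ g : G, g * w ≠ w * g) → (p : ℤ) ∣ β * β - 1) := by
  haveI := hc.normW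
  haveI := hc.normR
  haveI := hc.normN
  obtain ⟨y, hy⟩ := hc.exists_out
  obtain ⟨haA, haW⟩ := hc.gen he heA hy
  set a := ⁅e, y⁆ with had
  obtain ⟨hR, hr1, hrp, -, hcen⟩ := hc.R_facts he heA haA haW
  have hrR : ⁅a, e⁆ ∈ cR N := hR ▸ mem_zpowers _
  have hWsec : ∀ {w : G}, w ∈ cW N → ∀ g : G, ⁅g, w⁆ ∈ cR N := fun hw g =>
    hc.W_sec he heA haA haW hw g
  have hpW : ∀ {b : G}, b ∈ cA N → b ^ p ∈ cW N := fun hb => hc.quot_facts.1 _ (hc.A_le hb)
  have hχWm : ∀ {w : G}, w ∈ cW N → χ w ∈ cW N := fun {w} hw => by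
    simpa using mul_mem hw (hc.R_le (hχw w hw))
  have hχAm : ∀ {b : G}, b ∈ cA N → χ b ∈ cA N := fun {b} hb => by
    simpa using mul_mem (zpow_mem hb α) (hc.W_lt_A.le (hχa b hb))
  obtain ⟨u, hu, hχe'⟩ : ∃ u ∈ cA N, χ e = e ^ β * u := ⟨_, hχe, (mul_inv_cancel_left _ _).symm⟩
  have hχN : ∀ {n : G}, n ∈ N → χ n ∈ N := fun {n} hn => by
    obtain ⟨i, b, hb, rfl⟩ := hc.decompN he heA hn
    rw [map_mul, map_zpow, hχe']
    exact mul_mem (zpow_mem (mul_mem (zpow_mem he β) (hc.A_le hu)) i) (hc.A_le (hχAm hb))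
  obtain ⟨γ, m, hm, hχy⟩ := hc.decompG hy (χ y)
  have hmN : ∀ {x : G}, x ∈ N → ⁅m, x⁆ ∈ cR N := fun hx => commutator_mem_commutator hm hx
  obtain ⟨w₀, hw₀, hχa'⟩ : ∃ w ∈ cW N, χ a = a ^ α * w :=
    ⟨_, hχa a haA, (mul_inv_cancel_left _ _).symm⟩
  have haN := hc.A_le haA
  have h1 : (p : ℤ) ∣ α - β * γ := dvd_sub (hpW haA) haW (hχa a haA)
    (push_comm (cW N) χ hχe' hχy (fun g => hc.A_comm haA) (hc.A_comm' hu)
      (hc.A_comm' hu) (hc.R_le (hmN he)))
  have h1' : ((α : ZMod p)) = β * γ := by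
    have := (ZMod.intCast_zmod_eq_zero_iff_dvd _ p).2 h1
    push_cast at this
    exact sub_eq_zero.1 this
  constructor
  · rintro ⟨b, hb, g, hbg⟩
    have hay : ⁅a, y⁆ ∉ cR N := by
      intro h
      set π := QuotientGroup.mk' (cR N)
      have hone : ∀ {s t : G}, ⁅s, t⁆ ∈ cR N → Commute (π s) (π t) := fun {s t} hst =>
        commutatorElement_eq_one_iff_commute.1 (by
          rw [← map_commutatorElement]; exact (QuotientGroup.eq_one_iff _).2 hst)
      obtain ⟨i, w, hw, rfl⟩ := hc.decompA haA haW hb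
      obtain ⟨j, n, hn, rfl⟩ := hc.decompG hy g
      refine hbg ((QuotientGroup.eq_one_iff _).1 ?_)
      show π _ = 1
      rw [map_commutatorElement, commutatorElement_eq_one_iff_commute]
      simp only [map_mul, map_zpow]
      exact ((((hone h).zpow_zpow i j)).mul_right
        ((hone (commutator_mem_commutator haN hn)).zpow_left i)).mul_left
        (((hone (hWsec hw y)).symm.zpow_right j).mul_right
          (hone (by rw [one_comm hw hn]; exact one_mem _)))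
    have hz : ⁅a, y⁆ ∈ cW N := hc.A_comm' haA
    have hzp : ⁅a, y⁆ ^ p ∈ cR N := by
      have s := CfsgLib.MaxClassEss.sec_of_card (p := p) hc.pG hc.R_le
        (by rw [hc.cardW, (hc.R_facts he heA haA haW).2.2.2.1, sq])
      exact s.pow_mem hz
    have h3 : (p : ℤ) ∣ α * γ - 1 := dvd_sub hzp hay
      (push_comm (cR N) χ hχa' hχy (hWsec hz)
        (by rw [← commutatorElement_inv]; exact inv_mem (hWsec hw₀ y))
        (by rw [one_comm hw₀ hm]; exact one_mem _) (hmN haN))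
      (by rw [zpow_one]; exact hχw _ hz)
    rw [← ZMod.intCast_zmod_eq_zero_iff_dvd] at h3 ⊢
    push_cast at h3 ⊢
    linear_combination (β : ZMod p) * h3 + (α : ZMod p) * h1'
  · rintro ⟨w, hw, g, hwg⟩
    have hwy : ⁅w, y⁆ ≠ 1 := by
      intro h
      rw [commutatorElement_eq_one_iff_commute] at h
      obtain ⟨j, n, hn, rfl⟩ := hc.decompG hy g
      exact hwg ((h.zpow_right j).mul_right (comm_of_mem_W hw hn)).eq.symm
    have hwR : ⁅w, y⁆ ∈ cR N := by
      rw [← commutatorElement_inv]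
      exact inv_mem (hWsec hw y)
    have hbot : ∀ {x : G}, x ∈ cR N → ∀ g : G, ⁅g, x⁆ ∈ (⊥ : Subgroup G) := fun hx g =>
      mem_bot.2 (commutatorElement_eq_one_iff_mul_comm.2 (hcen _ hx g))
    obtain ⟨v, hv, hχw'⟩ : ∃ v ∈ cR N, χ w = w ^ (1 : ℤ) * v :=
      ⟨_, hχw w hw, by rw [zpow_one, mul_inv_cancel_left]⟩
    have h4 := push_comm (⊥ : Subgroup G) χ hχw' hχy (hbot hwR)
      (mem_bot.2 (commutatorElement_eq_one_iff_mul_comm.2 (hcen _ hv y).symm))
      (mem_bot.2 (commutatorElement_eq_one_iff_mul_comm.2 (hcen _ hv m).symm))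
      (mem_bot.2 (commutatorElement_eq_one_iff_commute.2 (comm_of_mem_W hw hm).symm))
    have h5 := push_comm (⊥ : Subgroup G) χ hχa' hχe' (hbot hrR)
      (mem_bot.2 (one_comm hw₀ he)) (mem_bot.2 (one_comm hw₀ (hc.A_le hu)))
      (mem_bot.2 (commutatorElement_eq_one_iff_commute.2 (hc.A_abelian hu haA)))
    -- `χ` is the `αβ`-th power on `R`
    have h6 : (⁅w, y⁆ ^ (α * β))⁻¹ * χ ⁅w, y⁆ ∈ (⊥ : Subgroup G) := by
      obtain ⟨k, hk⟩ := mem_zpowers_iff.1 (hR ▸ hwR : ⁅w, y⁆ ∈ zpowers ⁅a, e⁆)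
      rw [mem_bot, inv_mul_eq_one] at h5 ⊢
      rw [← hk, map_zpow, ← h5, ← zpow_mul, ← zpow_mul, mul_comm]
    have hwp : ⁅w, y⁆ ^ p ∈ (⊥ : Subgroup G) := by
      obtain ⟨k, hk⟩ := mem_zpowers_iff.1 (hR ▸ hwR : ⁅w, y⁆ ∈ zpowers ⁅a, e⁆)
      rw [mem_bot, ← hk, ← zpow_natCast, ← zpow_mul, mul_comm, zpow_mul, zpow_natCast, hrp, one_zpow]
    have h7 : (p : ℤ) ∣ 1 * γ - α * β := dvd_sub hwp (fun h => hwy (mem_bot.1 h)) h4 h6
    have hγ : (γ : ZMod p) ≠ 0 := by
      intro h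
      rw [ZMod.intCast_zmod_eq_zero_iff_dvd] at h
      obtain ⟨k, rfl⟩ := h
      refine hy ?_
      have hyp : y ^ p ∈ N := by
        have s := CfsgLib.MaxClassEss.sec_of_card (p := p) hc.pG (le_top : N ≤ ⊤)
          (by rw [card_top, hc.cardG, hc.cardN]; ring)
        exact s.pow_mem (mem_top y)
      have hχyN : χ y ∈ N := by
        rw [hχy, zpow_mul, zpow_natCast]
        exact mul_mem (zpow_mem hyp k) hm
      let f : N → N := fun n => ⟨χ n, hχN n.2⟩
      have hf : Function.Injective f := fun s t hst =>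
        Subtype.ext (χ.injective (congrArg Subtype.val hst))
      obtain ⟨n, hn⟩ := Finite.injective_iff_surjective.1 hf ⟨_, hχyN⟩
      exact χ.injective (congrArg Subtype.val hn) ▸ n.2
    rw [← ZMod.intCast_zmod_eq_zero_iff_dvd] at h7 ⊢
    push_cast at h7 ⊢
    have h8 : ((β : ZMod p) * β - 1) * γ = 0 := by linear_combination -h7 - (β : ZMod p) * h1'
    exact (mul_eq_zero.1 h8).resolve_right hγ

end Cfg

end Config

end CfsgLib.OrderFive
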