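import Cfsg.Agent.PearlMC.ThreeTools
import Cfsg.Agent.Fusion.OrderFive.Weight

/-!
Automorphisms of a slim group of order `p⁵` without abelian subgroup of index `p`.
-/

set_option autoImplicit false
set_option linter.unusedSectionVars false
set_option linter.style.haveILetI false

open Subgroup CfsgLib.PearlMC
open scoped commutatorElement

namespace CfsgLib.OrderFive

universe u

variable {G : Type u} [Group G] [Finite G] {p : ℕ} [hp : Fact p.Prime] {x : G}
  (S : Slim p x) (hcard : Nat.card G = p ^ 5)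

/-- The centralizer of the third term of the lower central series. -/
abbrev sM (G : Type u) [Group G] : Subgroup G := centralizer (gam G 2 : Set G)

include S hcard

theorem gam_four : gam G 4 = ⊥ := S.gam_eq_bot hcard (by norm_num) (by norm_num)

theorem card_gam {k : ℕ} (h1 : 1 ≤ k) (h4 : k ≤ 4) : Nat.card (gam G k) = p ^ (4 - k) := by
  have h := (gam G k).card_mul_index
  rw [S.index_gam hcard k h1 (by omega), hcard,
    show p ^ 5 = p ^ (4 - k) * p ^ (k + 1) by rw [← pow_add]; congr 1; omega] at h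
  exact Nat.eq_of_mul_eq_mul_right (pow_pos hp.out.pos _) h

theorem gam_three_central {z : G} (hz : z ∈ gam G 3) (g : G) : g * z = z * g :=
  mem_center_iff.1 (gam_le_center (gam_four S hcard) hz) g

theorem gam_one_comm {a b : G} (ha : a ∈ gam G 1) (hb : b ∈ gam G 1) : Commute a b := by
  haveI := S.pgroup.isNilpotent
  obtain ⟨u, hu, hu'⟩ := S.exists_layer hcard (k := 1) le_rfl (by norm_num)
  have h12 : ∀ {v w : G}, v ∈ gam G 1 → w ∈ gam G 2 → Commute v w := fun hv hw =>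
    commutatorElement_eq_one_iff_commute.1 (mem_bot.1 ((gam_four S hcard).le
      (comm_mem_gam_of hv hw le_rfl)))
  obtain ⟨i, w, hw, rfl⟩ := S.layer_gen hcard le_rfl (by norm_num) hu hu' ha
  obtain ⟨j, v, hv, rfl⟩ := S.layer_gen hcard le_rfl (by norm_num) hu hu' hb
  exact (((Commute.refl u).pow_pow i j).mul_right (h12 (pow_mem hu i) hv)).mul_left
    ((h12 (mul_mem (pow_mem hu j) (gam_anti (by norm_num) hv)) hw).symm)

theorem sM_facts : x ∉ sM G ∧ gam G 1 ≤ sM G ∧ Nat.card (sM G) = p ^ 4 ∧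
    ∀ m ∈ sM G, ∀ y ∈ gam G 1, ⁅m, y⁆ ∈ gam G 3 := by
  haveI := S.pgroup.isNilpotent
  have hlt : p ^ 2 < Nat.card G := by rw [hcard]; exact Nat.pow_lt_pow_right hp.out.one_lt (by norm_num)
  have hne : ∀ k, k ≤ 3 → gam G k ≠ ⊥ := fun k hk => S.gam_ne_bot hcard (by omega)
  have hx : x ∉ sM G := fun h => by
    obtain ⟨u, hu, hu'⟩ := S.exists_layer hcard (k := 2) (by norm_num) (by norm_num)
    refine (S.comm_level hlt (by norm_num) hu hu' (hne 3 le_rfl)).2 ?_
    rw [commutatorElement_eq_one_iff_mul_comm.2 (mem_centralizer_iff.1 h _ (inv_mem hu))]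
    exact one_mem _
  have h1M : gam G 1 ≤ sM G := fun a ha => mem_centralizer_iff.2 fun y hy =>
    ((gam_one_comm S hcard ha (gam_anti (by norm_num) hy)).symm).eq
  obtain ⟨a₀, ha₀, ha₀'⟩ := S.exists_layer hcard (k := 1) le_rfl (by norm_num)
  obtain ⟨hs2, hs2'⟩ := S.comm_level hlt le_rfl ha₀ ha₀' (hne 2 (by norm_num))
  set a := a₀⁻¹ with had
  have ha : a ∈ gam G 1 := inv_mem ha₀
  have ha' : a ∉ gam G 2 := fun h => ha₀' (by simpa [had] using inv_mem h)
  have hle : annih G 1 ≤ sM G := by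
    intro s hs
    refine mem_centralizer_iff.2 fun y hy => ?_
    obtain ⟨i, w, hw, rfl⟩ := S.layer_gen hcard (by norm_num) (by norm_num) hs2 hs2' hy
    have hc : ⁅s, a⁆ ∈ gam G 3 := mem_annih.1 hs a ha
    have hsx : ⁅s, x⁆ ∈ gam G 1 := commutator_mem_commutator (mem_top s) (mem_top x)
    have key : s * ⁅a, x⁆ * s⁻¹ = ⁅a, x⁆ := by
      set b := ⁅s, x⁆
      set c := ⁅s, a⁆
      have e1 : s * a * s⁻¹ = c * a := by simp [c, commutatorElement_def, mul_assoc]
      have e2 : s * x * s⁻¹ = b * x := by simp [b, commutatorElement_def, mul_assoc]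
      have hab : Commute a b := gam_one_comm S hcard ha hsx
      have hwb : Commute b ⁅a, x⁆ := gam_one_comm S hcard hsx (gam_anti (by norm_num) hs2)
      calc s * ⁅a, x⁆ * s⁻¹
          = (s * a * s⁻¹) * (s * x * s⁻¹) * (s * a * s⁻¹)⁻¹ * (s * x * s⁻¹)⁻¹ := by
            simp only [commutatorElement_def]; group
        _ = c * (a * b * x * a⁻¹) * c⁻¹ * x⁻¹ * b⁻¹ := by rw [e1, e2]; group
        _ = (a * b * x * a⁻¹) * c * c⁻¹ * x⁻¹ * b⁻¹ := by rw [gam_three_central S hcard hc]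
        _ = (a * b) * x * a⁻¹ * x⁻¹ * b⁻¹ := by group
        _ = (b * a) * x * a⁻¹ * x⁻¹ * b⁻¹ := by rw [hab.eq]
        _ = b * ⁅a, x⁆ * b⁻¹ := by simp only [commutatorElement_def]; group
        _ = ⁅a, x⁆ := by rw [hwb.eq, mul_inv_cancel_right]
    have h1 : Commute s ⁅a, x⁆ := mul_inv_eq_iff_eq_mul.1 key
    exact ((h1.pow_right i).mul_right (gam_three_central S hcard hw s)).eq.symm
  have hxa : ⁅x, a⁆ ∈ gam G 2 ∧ ⁅x, a⁆ ∉ gam G 3 := by
    rw [← commutatorElement_inv]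
    exact ⟨inv_mem hs2, fun h => hs2' (by simpa using inv_mem h)⟩
  have hdec : ∀ g : G, ∃ i : ℕ, (x ^ i)⁻¹ * g ∈ annih G 1 := by
    intro g
    have hga : ⁅g, a⁆ ∈ gam G 2 := by
      rw [← commutatorElement_inv]; exact inv_mem (comm_mem_gam_succ ha)
    obtain ⟨i, w, hw, e⟩ := S.layer_gen hcard (by norm_num) (by norm_num) hxa.1 hxa.2 hga
    refine ⟨i, mem_annih.2 fun y hy => ?_⟩
    let f : G →* G ⧸ gam G 3 := MonoidHom.mk' (fun u => ((⁅u, a⁆ : G) : G ⧸ gam G 3))
      fun u v => comm_mul_congr ha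
    have hf : f ((x ^ i)⁻¹ * g) = 1 := by
      rw [map_mul, map_inv, map_pow, inv_mul_eq_one]
      show ((⁅x, a⁆ : G) : G ⧸ gam G 3) ^ i = ((⁅g, a⁆ : G) : G ⧸ gam G 3)
      rw [e, QuotientGroup.mk_mul, (QuotientGroup.eq_one_iff w).2 hw, mul_one, QuotientGroup.mk_pow]
    obtain ⟨j, v, hv, rfl⟩ := S.layer_gen hcard le_rfl (by norm_num) ha ha' hy
    set h := (x ^ i)⁻¹ * g
    set π := QuotientGroup.mk' (gam G 3)
    have hone : ∀ {u v : G}, ⁅u, v⁆ ∈ gam G 3 → Commute (π u) (π v) := fun {u v} huv =>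
      commutatorElement_eq_one_iff_commute.1 (by
        rw [← map_commutatorElement]; exact (QuotientGroup.eq_one_iff _).2 huv)
    refine (QuotientGroup.eq_one_iff _).1 ?_
    show π _ = 1
    rw [map_commutatorElement, commutatorElement_eq_one_iff_commute, map_mul π (a ^ j) v, map_pow]
    refine ((hone ((QuotientGroup.eq_one_iff _).1 hf)).pow_right j).mul_right (hone ?_)
    rw [← commutatorElement_inv]
    exact inv_mem (comm_mem_gam_succ hv)
  have hxp : x ^ p ∈ center G := S.pow_prime_central hlt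
  have hcen : center G ≤ annih G 1 := fun z hz => mem_annih.2 fun y _ => by
    rw [commutatorElement_eq_one_iff_mul_comm.2 (mem_center_iff.1 hz y).symm]
    exact one_mem _
  have hannih : ∀ m ∈ sM G, m ∈ annih G 1 := by
    intro m hm
    obtain ⟨i, hi⟩ := hdec m
    have hxi : x ^ (i : ℤ) ∈ sM G := by
      have := mul_mem hm (inv_mem (hle hi))
      rw [mul_inv_rev, inv_inv, mul_inv_cancel_left] at this
      rwa [zpow_natCast]
    obtain ⟨k, hk⟩ := CfsgLib.Fusion.dvd_of_zpow_mem (p := p)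
      (hle (hcen hxp)) hx hxi
    have hxi' : x ^ i ∈ annih G 1 := by
      rw [← zpow_natCast, hk, zpow_mul, zpow_natCast]
      exact zpow_mem (hcen hxp) k
    rw [← mul_inv_cancel_left (x ^ i) m]
    exact mul_mem hxi' hi
  refine ⟨hx, h1M, ?_, fun m hm y hy => mem_annih.1 (hannih m hm) y hy⟩
  haveI : (sM G).Normal := normal_of_gam_le h1M
  have htop : sM G ⊔ zpowers x = ⊤ := eq_top_iff.2 fun g _ => by
    obtain ⟨i, hi⟩ := hdec g
    rw [← mul_inv_cancel_left (x ^ i) g]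
    exact mul_mem (mem_sup_right (npow_mem_zpowers x i)) (mem_sup_left (hle hi))
  have h1 := CfsgLib.PGroupBasic.card_sup_zpowers_le (p := p) (sM G) x (hle (hcen hxp))
  rw [sup_comm, htop, card_top, hcard] at h1
  obtain ⟨k, hk⟩ := IsPGroup.iff_card.1 (S.pgroup.to_subgroup (sM G))
  have h2 : Nat.card (sM G) < p ^ 5 := by
    rw [← hcard, ← card_top (G := G)]
    exact CfsgLib.Solvable.card_lt_of_lt (lt_top_iff_ne_top.2 fun h => hx (h ▸ mem_top x))
  rw [hk, ← pow_succ', Nat.pow_le_pow_iff_right hp.out.one_lt] at h1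
  rw [hk, Nat.pow_lt_pow_iff_right hp.out.one_lt] at h2
  rw [hk, show k = 4 by omega]

omit S hcard in
theorem aut_mem_gam (χ : MulAut G) {k : ℕ} {y : G} (hy : y ∈ gam G k) : χ y ∈ gam G k :=
  (gam_map χ.toMonoidHom χ.surjective k).le ⟨y, hy, rfl⟩

omit S hcard in
theorem aut_mem_sM (χ : MulAut G) {m : G} (hm : m ∈ sM G) : χ m ∈ sM G := by
  refine mem_centralizer_iff.2 fun y hy => ?_
  obtain ⟨y', rfl⟩ := χ.surjective y
  have hy' : y' ∈ gam G 2 := by simpa using aut_mem_gam χ⁻¹ hy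
  rw [← map_mul, ← map_mul, mem_centralizer_iff.1 hm y' hy']

theorem exists_s : ∃ s ∈ sM G, s ∉ gam G 1 := by
  refine SetLike.not_le_iff_exists.1 fun h => ?_
  have h1 := Subgroup.card_le_of_le h
  rw [(sM_facts S hcard).2.2.1, card_gam S hcard le_rfl (by norm_num)] at h1
  exact absurd ((Nat.pow_le_pow_iff_right hp.out.one_lt).1 h1) (by norm_num)

theorem decompM {s m : G} (hs : s ∈ sM G) (hs1 : s ∉ gam G 1) (hm : m ∈ sM G) :
    ∃ i : ℤ, ∃ a ∈ gam G 1, m = s ^ i * a := by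
  obtain ⟨-, h1M, hMc, -⟩ := sM_facts S hcard
  exact exists_decomp h1M (by rw [hMc, card_gam S hcard le_rfl (by norm_num)]; ring) S.pgroup hs hs1 hm

theorem exists_coord {d : G} (hd : d ∉ sM G) (g : G) : ∃ v : ℤ, (d ^ v)⁻¹ * g ∈ sM G := by
  obtain ⟨-, -, hMc, -⟩ := sM_facts S hcard
  obtain ⟨i, m, hm, rfl⟩ := exists_decomp (H := (⊤ : Subgroup G)) le_top
    (by rw [card_top, hcard, hMc]; ring) S.pgroup (mem_top d) hd (mem_top g)
  exact ⟨i, by rwa [inv_mul_cancel_left]⟩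

/-- The weights of an automorphism. -/
theorem slim_weights (hna : ¬ ∃ B : Subgroup G, (∀ a ∈ B, ∀ b ∈ B, a * b = b * a) ∧ B.index = p)
    {χ : MulAut G} {d s : G} (hd : d ∉ sM G) (hs : s ∈ sM G) (hs1 : s ∉ gam G 1) {v u : ℤ}
    (hv : (d ^ v)⁻¹ * χ d ∈ sM G) (hu : (s ^ u)⁻¹ * χ s ∈ gam G 1) :
    (p : ℤ) ∣ u - v * v ∧ ∀ z ∈ gam G 3, χ z = z ^ (v ^ 5) := by
  haveI := S.pgroup.isNilpotent
  obtain ⟨hx, h1M, hMc, hM3⟩ := sM_facts S hcard
  haveI : (sM G).Normal := normal_of_gam_le h1M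
  have hMM : ∀ {m n : G}, m ∈ sM G → n ∈ sM G → ⁅m, n⁆ ∈ gam G 3 := by
    intro m n hm hn
    set π := QuotientGroup.mk' (gam G 3)
    have hone : ∀ {a b : G}, ⁅a, b⁆ ∈ gam G 3 → Commute (π a) (π b) := fun {a b} hab =>
      commutatorElement_eq_one_iff_commute.1 (by
        rw [← map_commutatorElement]; exact (QuotientGroup.eq_one_iff _).2 hab)
    obtain ⟨i, a, ha, rfl⟩ := decompM S hcard hs hs1 hm
    obtain ⟨j, b, hb, rfl⟩ := decompM S hcard hs hs1 hn
    refine (QuotientGroup.eq_one_iff _).1 ?_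
    show π _ = 1
    rw [map_commutatorElement, commutatorElement_eq_one_iff_commute]
    simp only [map_mul, map_zpow]
    exact (((Commute.refl (π s)).zpow_zpow i j).mul_right ((hone (hM3 s hs b hb)).zpow_left i)).mul_left
      (((hone (hM3 s hs a ha)).symm.zpow_right j).mul_right (hone (hM3 a (h1M ha) b hb)))
  have hup : ∀ {k : ℕ} {w : G}, w ∈ gam G k → ∀ g : G, ⁅g, w⁆ ∈ gam G (k + 1) := fun hw g => by
    rw [← commutatorElement_inv]; exact inv_mem (comm_mem_gam_succ hw)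
  -- `[s, d]` generates the first layer
  set s1 := ⁅s, d⁆ with hs1d
  have hs11 : s1 ∈ gam G 1 := commutator_mem_commutator (mem_top s) (mem_top d)
  have hs12 : s1 ∉ gam G 2 := by
    intro h
    obtain ⟨u₀, hu₀, hu₀'⟩ := S.exists_layer hcard (k := 1) le_rfl (by norm_num)
    refine hu₀' ?_
    revert u₀
    suffices hle : gam G 1 ≤ gam G 2 from fun u₀ hu₀ _ => hle hu₀
    set π := QuotientGroup.mk' (gam G 2)
    have hone : ∀ {a b : G}, ⁅a, b⁆ ∈ gam G 2 → Commute (π a) (π b) := fun {a b} hab =>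
      commutatorElement_eq_one_iff_commute.1 (by
        rw [← map_commutatorElement]; exact (QuotientGroup.eq_one_iff _).2 hab)
    have hsd : Commute (π s) (π d) := hone h
    have hz : ∀ {a : G}, a ∈ gam G 1 → ∀ g : G, Commute (π a) (π g) := fun ha g =>
      hone (comm_mem_gam_succ ha)
    show ⁅(⊤ : Subgroup G), ⊤⁆ ≤ gam G 2
    rw [commutator_le]
    intro p₁ _ p₂ _
    obtain ⟨i, hi⟩ := exists_coord S hcard hd p₁
    obtain ⟨j, a, ha, hja⟩ := decompM S hcard hs hs1 hi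
    obtain ⟨k, hk⟩ := exists_coord S hcard hd p₂
    obtain ⟨l, b, hb, hlb⟩ := decompM S hcard hs hs1 hk
    rw [← mul_inv_cancel_left (d ^ i) p₁, ← mul_inv_cancel_left (d ^ k) p₂, hja, hlb]
    refine (QuotientGroup.eq_one_iff _).1 ?_
    show π _ = 1
    rw [map_commutatorElement, commutatorElement_eq_one_iff_commute]
    simp only [map_mul, map_zpow]
    exact (((Commute.refl (π d)).zpow_zpow i k).mul_right
      ((hsd.symm.zpow_zpow i l).mul_right ((hz hb d).symm.zpow_left i))).mul_left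
      (((hsd.zpow_zpow j k).mul_right (((Commute.refl (π s)).zpow_zpow j l).mul_right
        ((hz hb s).symm.zpow_left j))).mul_left
      (((hz ha d).zpow_right k).mul_right (((hz ha s).zpow_right l).mul_right (hz ha b))))
  set s2 := ⁅s1, d⁆ with hs2d
  have hs22 : s2 ∈ gam G 2 := comm_mem_gam_succ hs11
  have hs23 : s2 ∉ gam G 3 := by
    intro h
    refine hd ?_
    -- `d` centralizes the first layer modulo the third
    obtain ⟨i, hi⟩ := exists_coord S hcard hx d
    set π := QuotientGroup.mk' (gam G 3)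
    have hone : ∀ {a b : G}, ⁅a, b⁆ ∈ gam G 3 → Commute (π a) (π b) := fun {a b} hab =>
      commutatorElement_eq_one_iff_commute.1 (by
        rw [← map_commutatorElement]; exact (QuotientGroup.eq_one_iff _).2 hab)
    have hlt : p ^ 2 < Nat.card G := by
      rw [hcard]; exact Nat.pow_lt_pow_right hp.out.one_lt (by norm_num)
    obtain ⟨l1, l2⟩ := S.comm_level hlt le_rfl hs11 hs12 (S.gam_ne_bot hcard (by norm_num))
    have hmx : Commute (π s1) (π (x ^ i)) := by
      have h1 : Commute (π s1) (π d) := hone h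
      have h2 : Commute (π s1) (π ((x ^ i)⁻¹ * d)) := (hone (hM3 _ hi s1 hs11)).symm
      have := h1.mul_right h2.inv_right
      rwa [← map_inv, ← map_mul, mul_inv_rev, inv_inv, mul_inv_cancel_left] at this
    by_contra hdM
    have hi0 : ¬ (p : ℤ) ∣ i := by
      rintro ⟨k, rfl⟩
      refine hdM ?_
      rw [← mul_inv_cancel_left (x ^ ((p : ℤ) * k)) d]
      refine mul_mem ?_ hi
      rw [zpow_mul, zpow_natCast]
      exact zpow_mem (center_le_centralizer _ (S.pow_prime_central hlt)) k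
    obtain ⟨l, hl⟩ := CfsgLib.Fusion.exists_zpow_undo S.pgroup x hi0
    have h3 : Commute (π s1⁻¹) (π x) := by
      rw [map_inv, ← hl, map_zpow π (x ^ i) l]
      exact (hmx.zpow_right l).inv_left
    refine l2 ((QuotientGroup.eq_one_iff _).1 ?_)
    show π _ = 1
    rw [map_commutatorElement, commutatorElement_eq_one_iff_commute]
    exact h3
  set z0 := ⁅s2, d⁆ with hz0d
  have hz03 : z0 ∈ gam G 3 := comm_mem_gam_succ hs22
  have hz01 : z0 ≠ 1 := by
    intro h
    rw [hz0d, commutatorElement_eq_one_iff_commute] at h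
    refine hd (mem_centralizer_iff.2 fun y hy => ?_)
    obtain ⟨i, w, hw, rfl⟩ := S.layer_gen hcard (by norm_num) (by norm_num) hs22 hs23 hy
    exact ((h.pow_left i).mul_left (gam_three_central S hcard hw d).symm).eq
  have hgen : ∀ z ∈ gam G 3, ∃ i : ℕ, z = z0 ^ i := fun z hz => by
    obtain ⟨i, w, hw, e⟩ := S.layer_gen hcard (by norm_num) (by norm_num) hz03
      (fun h => hz01 (mem_bot.1 ((gam_four S hcard).le h))) hz
    have : w = 1 := mem_bot.1 ((gam_four S hcard).le hw)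
    exact ⟨i, by rw [e, this, mul_one]⟩
  have hz3p : ∀ z ∈ gam G 3, z ^ p = 1 := fun z hz => by
    have h := pow_card_eq_one' (x := (⟨z, hz⟩ : gam G 3))
    rw [card_gam S hcard (by norm_num) (by norm_num), show p ^ (4 - 3) = p from pow_one p] at h
    exact (SubmonoidClass.coe_pow _ _).symm.trans (congrArg Subtype.val h)
  have hzg : ∀ {z : G}, z ∈ gam G 3 → ∀ g : G, ⁅g, z⁆ ∈ (⊥ : Subgroup G) := fun hz g =>
    mem_bot.2 (commutatorElement_eq_one_iff_mul_comm.2 (gam_three_central S hcard hz g))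
  have hM2 : ∀ {m w : G}, m ∈ sM G → w ∈ gam G 2 → ⁅m, w⁆ ∈ (⊥ : Subgroup G) := fun hm hw =>
    mem_bot.2 (commutatorElement_eq_one_iff_mul_comm.2 (mem_centralizer_iff.1 hm _ hw).symm)
  have h2M : gam G 2 ≤ gam G 1 := gam_anti (by norm_num)
  -- pushing `χ` down the layers
  obtain ⟨m, hm, hχd⟩ : ∃ m ∈ sM G, χ d = d ^ v * m := ⟨_, hv, (mul_inv_cancel_left _ _).symm⟩
  obtain ⟨g1, hg1, hχs⟩ : ∃ g ∈ gam G 1, χ s = s ^ u * g := ⟨_, hu, (mul_inv_cancel_left _ _).symm⟩
  have e1 := push_comm (gam G 2) χ hχs hχd (hup hs11) (comm_mem_gam_succ hg1)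
    (comm_mem_gam_succ hg1) (gam_anti (by norm_num) (hMM hm hs))
  obtain ⟨g2, hg2, hχs1⟩ : ∃ g ∈ gam G 2, χ s1 = s1 ^ (u * v) * g :=
    ⟨_, e1, (mul_inv_cancel_left _ _).symm⟩
  have e2 := push_comm (gam G 3) χ hχs1 hχd (hup hs22) (comm_mem_gam_succ hg2)
    (comm_mem_gam_succ hg2) (hM3 m hm s1 hs11)
  obtain ⟨g3, hg3, hχs2⟩ : ∃ g ∈ gam G 3, χ s2 = s2 ^ (u * v * v) * g :=
    ⟨_, e2, (mul_inv_cancel_left _ _).symm⟩
  have e3 := push_comm (⊥ : Subgroup G) χ hχs2 hχd (hzg hz03)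
    (mem_bot.2 (commutatorElement_eq_one_iff_mul_comm.2 (gam_three_central S hcard hg3 d).symm))
    (mem_bot.2 (commutatorElement_eq_one_iff_mul_comm.2 (gam_three_central S hcard hg3 m).symm))
    (hM2 hm hs22)
  rw [mem_bot, inv_mul_eq_one, ← hz0d] at e3
  have hss : ⁅s, s1⁆ ≠ 1 := by
    intro h
    refine hna ⟨sM G, fun a ha b hb => ?_, ?_⟩
    · have hs1c : ∀ {y : G}, y ∈ gam G 1 → Commute s y := fun {y} hy => by
        obtain ⟨i, w, hw, rfl⟩ := S.layer_gen hcard le_rfl (by norm_num) hs11 hs12 hy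
        exact ((commutatorElement_eq_one_iff_commute.1 h).pow_right i).mul_right
          (mem_centralizer_iff.1 hs _ hw).symm
      obtain ⟨i, a', ha', rfl⟩ := decompM S hcard hs hs1 ha
      obtain ⟨j, b', hb', rfl⟩ := decompM S hcard hs hs1 hb
      exact ((((Commute.refl s).zpow_zpow i j).mul_right ((hs1c hb').zpow_left i))).mul_left
        (((hs1c ha').symm.zpow_right j).mul_right (gam_one_comm S hcard ha' hb'))
    · have hh := (sM G).card_mul_index
      rw [hMc, hcard, pow_succ p 4] at hh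
      exact Nat.eq_of_mul_eq_mul_left (pow_pos hp.out.pos 4) hh
  have hss3 : ⁅s, s1⁆ ∈ gam G 3 := hM3 s hs s1 hs11
  have e4 := push_comm (⊥ : Subgroup G) χ hχs hχs1 (hzg hss3)
    (mem_bot.2 (commutatorElement_eq_one_iff_commute.2 (gam_one_comm S hcard hg1 hs11)))
    (mem_bot.2 (commutatorElement_eq_one_iff_commute.2 (gam_one_comm S hcard hg1 (h2M hg2))))
    (mem_bot.2 (commutatorElement_eq_one_iff_commute.2
      (mem_centralizer_iff.1 hs _ hg2 : Commute g2 s)))
  obtain ⟨k, hk⟩ := hgen _ hss3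
  have e5 : (⁅s, s1⁆ ^ (u * v * v * v))⁻¹ * χ ⁅s, s1⁆ ∈ (⊥ : Subgroup G) := by
    rw [mem_bot, inv_mul_eq_one, hk, map_pow, ← e3, ← zpow_natCast, ← zpow_natCast, ← zpow_mul,
      ← zpow_mul, mul_comm]
  have h7 : (p : ℤ) ∣ u * (u * v) - u * v * v * v :=
    dvd_sub (mem_bot.2 (hz3p _ hss3)) (fun h => hss (mem_bot.1 h)) e4 e5
  have hnz : ¬ (p : ℤ) ∣ u * v * v * v := by
    intro hdvd
    refine hz01 (χ.injective ?_)
    rw [← e3, map_one, CfsgLib.Fusion.zpow_congr (hz3p _ hz03) (j := 0) (by simpa using hdvd),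
      zpow_zero]
  rw [← ZMod.intCast_zmod_eq_zero_iff_dvd] at h7 hnz
  have huv : (u : ZMod p) - v * v = 0 := by
    push_cast at h7 hnz
    have h8 : (u : ZMod p) * v * ((u : ZMod p) - v * v) = 0 := by linear_combination h7
    refine (mul_eq_zero.1 h8).resolve_left fun h => hnz ?_
    rw [h, zero_mul, zero_mul]
  refine ⟨(ZMod.intCast_zmod_eq_zero_iff_dvd _ p).1 (by push_cast; exact huv), fun z hz => ?_⟩
  obtain ⟨i, rfl⟩ := hgen z hz
  rw [map_pow, ← e3, ← zpow_natCast, ← zpow_natCast, ← zpow_mul, ← zpow_mul, mul_comm (i : ℤ)]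
  refine CfsgLib.Fusion.zpow_congr (hz3p _ hz03) ((ZMod.intCast_zmod_eq_zero_iff_dvd _ p).1 ?_)
  push_cast
  linear_combination (i : ZMod p) * (v : ZMod p) ^ 3 * huv

end CfsgLib.OrderFive
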